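import Cfsg.Agent.Known.Strong
import Cfsg.Agent.Known.NetTab

/-! The centraliser of a transvection in SL(5,2) as a permutation group `G` of degree 16 and order 21504 with a strong presentation (generated
certificate, helper25): `nets`, `rels`, `up`, `card`, `rep`, `hg`, `lifts`. -/

set_option maxRecDepth 100000
set_option exponentiation.threshold 100000

namespace Cfsg.Agent.Known.TvP

open Cfsg.Agent.Spor Equiv

noncomputable def n0 : Net :=
  Net.cons 4 (nat_lit 0xf00) <|
  Net.cons 1 (nat_lit 0x5500) <|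
  Net.nil

noncomputable def n1 : Net :=
  Net.cons 1 (nat_lit 0x5500) <|
  Net.nil

noncomputable def n2 : Net :=
  Net.cons 4 (nat_lit 0xf00) <|
  Net.cons 2 (nat_lit 0x3300) <|
  Net.nil

noncomputable def n3 : Net :=
  Net.cons 4 (nat_lit 0xf00) <|
  Net.cons 8 (nat_lit 0xf0) <|
  Net.cons 4 (nat_lit 0xf00) <|
  Net.cons 2 (nat_lit 0x330) <|
  Net.nil

noncomputable def n4 : Net :=
  Net.cons 2 (nat_lit 0x3030) <|
  Net.cons 4 (nat_lit 0xc0c) <|
  Net.cons 2 (nat_lit 0x3030) <|
  Net.cons 1 (nat_lit 0x4114) <|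
  Net.nil

noncomputable def n5 : Net :=
  Net.cons 8 (nat_lit 0xff) <|
  Net.cons 2 (nat_lit 0x3333) <|
  Net.cons 1 (nat_lit 0x5555) <|
  Net.nil

noncomputable def nets : List Net := [n0, n1, n2, n3, n4, n5]

theorem ok : netsOk 16 nets = true := by decide +kernel

def rels : List (List ℕ) := [[0,0],[1,1],[2,2],[0,2,0,2],[0,1,0,1],[1,2,1,2],[3,3],[0,3,0,3,0,3],[2,3,2,3,2,3],[0,1,3,0,1,3,1,0,3],[1,2,3,
  1,2,3,2,1,3],[4,4],[0,1,2,4,0,4],[2,3,2,4,3,2,4,3,4],[5,5],[2,4,5,2,4,5],[0,3,5,3,5,0,5],[0,5,2,5,0,5,2,5]]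

theorem plhP_4 : ∀ p < 4, chkPl nets 16 4 rels p = true :=
  forall_lt_add (a := 0) (b := 4) (fun _ h => absurd h (Nat.not_lt_zero _)) (by decide +kernel)

theorem hP : ∀ r ∈ rels, ev (PP nets) r = 1 := ev_eq_one_of_planes ok (by decide) plhP_4

noncomputable def K0_0 : ℕ := (joinL 16 [(nat_lit 0x3000),
  (nat_lit 0x200),
  (nat_lit 0xcc00),
  (nat_lit 0x0),
  (nat_lit 0x0),
  (nat_lit 0x0)])

theorem df0 : chkDef nets 16 8 rels (ivl 0 96) (nat_lit 0x10000000000000002) 3 K0_0 = true := by
  decide +kernel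

noncomputable def K0_1 : ℕ := (joinL 16 [(nat_lit 0xff00),
  (nat_lit 0xff00),
  (nat_lit 0xff00),
  (nat_lit 0x0),
  (nat_lit 0x0),
  (nat_lit 0x0)])

theorem dd0_0 : chkDed nets 16 8 rels (letS []) (nat_lit 0x8040000080000000802000010060000100a00001808) 6 K0_0 K0_1 = true := by
  decide +kernel

theorem en0 : chkEnd nets 16 4 8 rels [0,1,2] (nat_lit 0xff00) 8 K0_1 = true := by decide +kernel

theorem up0 {H : Type*} [Group H] {g : ℕ → H} (hg : ∀ r ∈ rels, ev g r = 1) : CardLe (genL g [0,1,2]) 8 :=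
  CardLe.lev ok hg (ded_let ok (by decide) hg hP dd0_0 (defPhase_sound _ ok hg hP df0))
    en0 (cardLe_nil g)

noncomputable def K1_0 : ℕ := (joinL 16 [(nat_lit 0xc000),
  (nat_lit 0x800),
  (nat_lit 0x3300),
  (nat_lit 0x4e0),
  (nat_lit 0x0),
  (nat_lit 0x0)])

theorem df1 : chkDef nets 16 4 rels (ivl 0 96) (nat_lit 0x600000001000000000000000200000006) 5 K1_0 = true := by
  decide +kernel

noncomputable def K1_1 : ℕ := (joinL 16 [(nat_lit 0xfff0),
  (nat_lit 0xfff0),
  (nat_lit 0xfff0),
  (nat_lit 0xfff0),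
  (nat_lit 0x0),
  (nat_lit 0x0)])

theorem dd1_0 : chkDed nets 16 4 rels (letS [0,1,2]) (nat_lit 0x10000000300000005000008040000080c0000080000000802000010060000100a00001808000028100000280e0000401400004012000020100000200e00003814) 17 K1_0 K1_1 = true := by
  decide +kernel

theorem en1 : chkEnd nets 16 4 4 rels [0,1,2,3] (nat_lit 0xfff0) 12 K1_1 = true := by decide +kernel

theorem up1 {H : Type*} [Group H] {g : ℕ → H} (hg : ∀ r ∈ rels, ev g r = 1) : CardLe (genL g [0,1,2,3]) 96 :=
  CardLe.lev ok hg (ded_let ok (by decide) hg hP dd1_0 (defPhase_sound _ ok hg hP df1))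
    en1 (up0 hg)

noncomputable def K2_0 : ℕ := (joinL 16 [(nat_lit 0xc000),
  (nat_lit 0x400),
  (nat_lit 0x3300),
  (nat_lit 0x8d0),
  (nat_lit 0x28),
  (nat_lit 0x0)])

theorem df2 : chkDef nets 16 2 rels (ivl 0 96) (nat_lit 0xb00000006000000010000000000000002000000060000000b) 7 K2_0 = true := by
  decide +kernel

noncomputable def K2_1 : ℕ := (joinL 16 [(nat_lit 0xfffc),
  (nat_lit 0xfffc),
  (nat_lit 0xfffc),
  (nat_lit 0xfffc),
  (nat_lit 0xfffc),
  (nat_lit 0x0)])

theorem dd2_0 : chkDed nets 16 2 rels (letS [0,1,2,3]) (nat_lit 0x1000000030000000500000007000008040000080c000008000000081600000802000010060000100a00001808000020180000301a0000081600002818000018180000280e00002818000020100000101a00000818000028100000200e0000401400004012000020100000200e000038140000401a000020180000381a0000281a00000818) 34 K2_0 K2_1 = true := by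
  decide +kernel

theorem en2 : chkEnd nets 16 4 2 rels [0,1,2,3,4] (nat_lit 0xfffc) 14 K2_1 = true := by decide +kernel

theorem up2 {H : Type*} [Group H] {g : ℕ → H} (hg : ∀ r ∈ rels, ev g r = 1) : CardLe (genL g [0,1,2,3,4]) 1344 :=
  CardLe.lev ok hg (ded_let ok (by decide) hg hP dd2_0 (defPhase_sound _ ok hg hP df2))
    en2 (up1 hg)

noncomputable def K3_0 : ℕ := (joinL 16 [(nat_lit 0xc000),
  (nat_lit 0x400),
  (nat_lit 0x3300),
  (nat_lit 0x0),
  (nat_lit 0x0),
  (nat_lit 0x8fe)])

theorem df3 : chkDef nets 16 0 rels (ivl 0 96) (nat_lit 0xe0000000100000000000000020000000e) 5 K3_0 = true := by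
  decide +kernel

noncomputable def K3_1 : ℕ := (joinL 16 [(nat_lit 0xffff),
  (nat_lit 0xffff),
  (nat_lit 0xffff),
  (nat_lit 0xffff),
  (nat_lit 0xffff),
  (nat_lit 0xffff)])

theorem dd3_0 : chkDed nets 16 0 rels (letS [0,1,2,3,4]) (nat_lit 0x1000000030000000500000007000000090000081c000008040000080000001006000008020000100a000018080000201e000018200000302200002022000008160000080c0000281800001818000028180000201e000028100000082000000020000008160000080c000020220000181e00002010000018200000381a000030220000201e00000816000008180000381a0000181e0000401200003012000020180000302200001820000008180000201e00002022000008180000200e00000820000038140000080c000020220000081800001820) 54 K3_0 K3_1 = true := by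
  decide +kernel

theorem en3 : chkEnd nets 16 4 0 rels (List.range 6) (nat_lit 0xffff) 16 K3_1 = true := by decide +kernel

theorem up {H : Type*} [Group H] {g : ℕ → H} (hg : ∀ r ∈ rels, ev g r = 1) : CardLe (genL g (List.range 6)) 21504 :=
  CardLe.lev ok hg (ded_let ok (by decide) hg hP dd3_0 (defPhase_sound _ ok hg hP df3))
    en3 (up2 hg)

theorem lo0 : CardGe (genL (PP nets) [0,1,2]) 8 :=
  CardGe.stepL (L := 4) (b := 8) (n := 8) (ys := []) (prog := [2,1,0]) ok (cardGe_one _)
    (genL_mono _ (by decide)) (by decide +kernel) (by decide +kernel)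

theorem lo1 : CardGe (genL (PP nets) [0,1,2,3]) 96 :=
  CardGe.stepL (L := 4) (b := 4) (n := 12) (ys := [0,1,2]) (prog := [3,2,1,0,3]) ok (lo0)
    (genL_mono _ (by decide)) (by decide +kernel) (by decide +kernel)

theorem lo2 : CardGe (genL (PP nets) [0,1,2,3,4]) 1344 :=
  CardGe.stepL (L := 4) (b := 2) (n := 14) (ys := [0,1,2,3]) (prog := [4,3,4,1,0,3,4]) ok (lo1)
    (genL_mono _ (by decide)) (by decide +kernel) (by decide +kernel)

theorem lo3 : CardGe (genL (PP nets) (List.range 6)) 21504 :=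
  CardGe.stepL (L := 4) (b := 0) (n := 16) (ys := [0,1,2,3,4]) (prog := [5,4,1,0,5]) ok (lo2)
    (genL_mono _ (by decide)) (by decide +kernel) (by decide +kernel)

/-- the group. -/
abbrev G : Type := PG nets 6

theorem lo : CardGe (PG nets 6) 21504 := lo3

theorem card : Nat.card G = 21504 := PG.card (up hP) lo

noncomputable abbrev g : ℕ → G := PG.g nets 6

noncomputable abbrev φ : G →* Perm ℕ := (PG nets 6).subtype

theorem rep : PermRep g nets 16 6 φ := PG.rep ok

theorem hl : chkLet (List.range 6) rels = true := by decide +kernel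

theorem hg : ∀ r ∈ rels, ev g r = 1 := PG.hg ok hl hP

theorem lifts : Lifts g 6 rels := PG.lifts ok hl hP (by decide) card fun _ _ _ h => up h

end Cfsg.Agent.Known.TvP
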