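import Cfsg.Agent.Known.Strong
import Cfsg.Agent.Known.NetTab

/-! A6 as a permutation group `G` of degree 6 and order 360 with a strong presentation (generated
certificate, helper25): `nets`, `rels`, `up`, `card`, `rep`, `hg`, `lifts`. -/

set_option maxRecDepth 100000
set_option exponentiation.threshold 100000

namespace Cfsg.Agent.Known.A6P

open Cfsg.Agent.Spor Equiv

noncomputable def n0 : Net :=
  Net.cons 2 (nat_lit 0x2) <|
  Net.cons 4 (nat_lit 0x2) <|
  Net.cons 2 (nat_lit 0x2) <|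
  Net.cons 1 (nat_lit 0x10) <|
  Net.nil

noncomputable def n1 : Net :=
  Net.cons 1 (nat_lit 0x10) <|
  Net.cons 2 (nat_lit 0x2) <|
  Net.cons 4 (nat_lit 0x2) <|
  Net.cons 2 (nat_lit 0x2) <|
  Net.nil

noncomputable def n2 : Net :=
  Net.cons 2 (nat_lit 0x3) <|
  Net.cons 4 (nat_lit 0x3) <|
  Net.cons 2 (nat_lit 0x3) <|
  Net.cons 1 (nat_lit 0x14) <|
  Net.nil

noncomputable def n3 : Net :=
  Net.cons 1 (nat_lit 0x14) <|
  Net.cons 2 (nat_lit 0x1) <|
  Net.cons 4 (nat_lit 0x1) <|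
  Net.cons 2 (nat_lit 0x3) <|
  Net.cons 1 (nat_lit 0x14) <|
  Net.nil

noncomputable def n4 : Net :=
  Net.cons 4 (nat_lit 0x3) <|
  Net.nil

noncomputable def nets : List Net := [n0, n1, n2, n3, n4]

theorem ok : netsOk 6 nets = true := by decide +kernel

def rels : List (List ℕ) := [[0,1],[1,0],[0,0,0],[2,2],[0,2,0,2,0,2],[3,3],[0,3,2,0,3,2,3,1,2],[4,4],[2,4,2,4,2,4],[0,4,2,0,4,3,2]]

theorem plhP_3 : ∀ p < 3, chkPl nets 6 3 rels p = true :=
  forall_lt_add (a := 0) (b := 3) (fun _ h => absurd h (Nat.not_lt_zero _)) (by decide +kernel)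

theorem hP : ∀ r ∈ rels, ev (PP nets) r = 1 := ev_eq_one_of_planes ok (by decide) plhP_3

noncomputable def K0_0 : ℕ := (joinL 6 [(nat_lit 0x0),
  (nat_lit 0x30),
  (nat_lit 0x0),
  (nat_lit 0x0),
  (nat_lit 0x0)])

theorem df0 : chkDef nets 6 3 rels (ivl 0 30) (nat_lit 0x0) 2 K0_0 = true := by
  decide +kernel

noncomputable def K0_1 : ℕ := (joinL 6 [(nat_lit 0x38),
  (nat_lit 0x38),
  (nat_lit 0x0),
  (nat_lit 0x0),
  (nat_lit 0x0)])

theorem dd0_0 : chkDed nets 6 3 rels (letS []) (nat_lit 0x8020000100400000002) 3 K0_0 K0_1 = true := by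
  decide +kernel

theorem en0 : chkEnd nets 6 3 3 rels [0,1] (nat_lit 0x38) 3 K0_1 = true := by decide +kernel

theorem up0 {H : Type*} [Group H] {g : ℕ → H} (hg : ∀ r ∈ rels, ev g r = 1) : CardLe (genL g [0,1]) 3 :=
  CardLe.lev ok hg (ded_let ok (by decide) hg hP dd0_0 (defPhase_sound _ ok hg hP df0))
    en0 (cardLe_nil g)

noncomputable def K1_0 : ℕ := (joinL 6 [(nat_lit 0x0),
  (nat_lit 0x18),
  (nat_lit 0x20),
  (nat_lit 0x0),
  (nat_lit 0x0)])

theorem df1 : chkDef nets 6 2 rels (ivl 0 30) (nat_lit 0x30000000000000000) 3 K1_0 = true := by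
  decide +kernel

noncomputable def K1_1 : ℕ := (joinL 6 [(nat_lit 0x3c),
  (nat_lit 0x3c),
  (nat_lit 0x3c),
  (nat_lit 0x0),
  (nat_lit 0x0)])

theorem dd1_0 : chkDed nets 6 2 rels (letS [0,1]) (nat_lit 0x100000003000008020000080600001004000000020000280800000806) 8 K1_0 K1_1 = true := by
  decide +kernel

theorem en1 : chkEnd nets 6 3 2 rels [0,1,2] (nat_lit 0x3c) 4 K1_1 = true := by decide +kernel

theorem up1 {H : Type*} [Group H] {g : ℕ → H} (hg : ∀ r ∈ rels, ev g r = 1) : CardLe (genL g [0,1,2]) 12 :=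
  CardLe.lev ok hg (ded_let ok (by decide) hg hP dd1_0 (defPhase_sound _ ok hg hP df1))
    en1 (up0 hg)

noncomputable def K2_0 : ℕ := (joinL 6 [(nat_lit 0x0),
  (nat_lit 0x18),
  (nat_lit 0x20),
  (nat_lit 0x4),
  (nat_lit 0x0)])

theorem df2 : chkDef nets 6 1 rels (ivl 0 30) (nat_lit 0x5000000030000000000000000) 4 K2_0 = true := by
  decide +kernel

noncomputable def K2_1 : ℕ := (joinL 6 [(nat_lit 0x3e),
  (nat_lit 0x3e),
  (nat_lit 0x3e),
  (nat_lit 0x3e),
  (nat_lit 0x0)])

theorem dd2_0 : chkDed nets 6 1 rels (letS [0,1,2]) (nat_lit 0x1000000030000000500000802000008060000080a000010040000200c000000020000080a0000000c0000000200002808000008060000300c) 15 K2_0 K2_1 = true := by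
  decide +kernel

theorem en2 : chkEnd nets 6 3 1 rels [0,1,2,3] (nat_lit 0x3e) 5 K2_1 = true := by decide +kernel

theorem up2 {H : Type*} [Group H] {g : ℕ → H} (hg : ∀ r ∈ rels, ev g r = 1) : CardLe (genL g [0,1,2,3]) 60 :=
  CardLe.lev ok hg (ded_let ok (by decide) hg hP dd2_0 (defPhase_sound _ ok hg hP df2))
    en2 (up1 hg)

noncomputable def K3_0 : ℕ := (joinL 6 [(nat_lit 0x0),
  (nat_lit 0x20),
  (nat_lit 0xc),
  (nat_lit 0x0),
  (nat_lit 0x12)])

theorem df3 : chkDef nets 6 0 rels (ivl 0 30) (nat_lit 0x7000000000000000300000007) 4 K3_0 = true := by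
  decide +kernel

noncomputable def K3_1 : ℕ := (joinL 6 [(nat_lit 0x3f),
  (nat_lit 0x3f),
  (nat_lit 0x3f),
  (nat_lit 0x3f),
  (nat_lit 0x3f)])

theorem dd3_0 : chkDed nets 6 0 rels (letS [0,1,2,3]) (nat_lit 0x10000000300000005000000070000080e00000806000008020000281000001812000000020000100400002812000000020000080a00002008000000020000300c0000080a00000812000020100000181200000002) 22 K3_0 K3_1 = true := by
  decide +kernel

theorem en3 : chkEnd nets 6 3 0 rels (List.range 5) (nat_lit 0x3f) 6 K3_1 = true := by decide +kernel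

theorem up {H : Type*} [Group H] {g : ℕ → H} (hg : ∀ r ∈ rels, ev g r = 1) : CardLe (genL g (List.range 5)) 360 :=
  CardLe.lev ok hg (ded_let ok (by decide) hg hP dd3_0 (defPhase_sound _ ok hg hP df3))
    en3 (up2 hg)

theorem lo0 : CardGe (genL (PP nets) [0,1]) 3 :=
  CardGe.stepL (L := 3) (b := 3) (n := 3) (ys := []) (prog := [1,1]) ok (cardGe_one _)
    (genL_mono _ (by decide)) (by decide +kernel) (by decide +kernel)

theorem lo1 : CardGe (genL (PP nets) [0,1,2]) 12 :=
  CardGe.stepL (L := 3) (b := 2) (n := 4) (ys := [0,1]) (prog := [2,1,2]) ok (lo0)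
    (genL_mono _ (by decide)) (by decide +kernel) (by decide +kernel)

theorem lo2 : CardGe (genL (PP nets) [0,1,2,3]) 60 :=
  CardGe.stepL (L := 3) (b := 1) (n := 5) (ys := [0,1,2]) (prog := [3,2,3,2]) ok (lo1)
    (genL_mono _ (by decide)) (by decide +kernel) (by decide +kernel)

theorem lo3 : CardGe (genL (PP nets) (List.range 5)) 360 :=
  CardGe.stepL (L := 3) (b := 0) (n := 6) (ys := [0,1,2,3]) (prog := [4,2,3,4,3]) ok (lo2)
    (genL_mono _ (by decide)) (by decide +kernel) (by decide +kernel)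

/-- the group. -/
abbrev G : Type := PG nets 5

theorem lo : CardGe (PG nets 5) 360 := lo3

theorem card : Nat.card G = 360 := PG.card (up hP) lo

noncomputable abbrev g : ℕ → G := PG.g nets 5

noncomputable abbrev φ : G →* Perm ℕ := (PG nets 5).subtype

theorem rep : PermRep g nets 6 5 φ := PG.rep ok

theorem hl : chkLet (List.range 5) rels = true := by decide +kernel

theorem hg : ∀ r ∈ rels, ev g r = 1 := PG.hg ok hl hP

theorem lifts : Lifts g 5 rels := PG.lifts ok hl hP (by decide) card fun _ _ _ h => up h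

end Cfsg.Agent.Known.A6P
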