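import Cfsg.Agent.Known.Strong
import Cfsg.Agent.Known.NetTab

/-! A7 as a permutation group `G` of degree 7 and order 2520 with a strong presentation (generated
certificate, helper25): `nets`, `rels`, `up`, `card`, `rep`, `hg`, `lifts`. -/

set_option maxRecDepth 100000
set_option exponentiation.threshold 100000

namespace Cfsg.Agent.Known.A7P

open Cfsg.Agent.Spor Equiv

noncomputable def n0 : Net :=
  Net.cons 1 (nat_lit 0x14) <|
  Net.cons 2 (nat_lit 0x10) <|
  Net.cons 4 (nat_lit 0x4) <|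
  Net.cons 1 (nat_lit 0x14) <|
  Net.nil

noncomputable def n1 : Net :=
  Net.cons 1 (nat_lit 0x14) <|
  Net.cons 4 (nat_lit 0x4) <|
  Net.cons 2 (nat_lit 0x10) <|
  Net.cons 1 (nat_lit 0x14) <|
  Net.nil

noncomputable def n2 : Net :=
  Net.cons 1 (nat_lit 0x4) <|
  Net.cons 4 (nat_lit 0x4) <|
  Net.cons 1 (nat_lit 0x14) <|
  Net.nil

noncomputable def n3 : Net :=
  Net.cons 1 (nat_lit 0x14) <|
  Net.cons 2 (nat_lit 0x10) <|
  Net.cons 4 (nat_lit 0x6) <|
  Net.cons 2 (nat_lit 0x10) <|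
  Net.cons 1 (nat_lit 0x14) <|
  Net.nil

noncomputable def n4 : Net :=
  Net.cons 1 (nat_lit 0x4) <|
  Net.cons 2 (nat_lit 0x2) <|
  Net.cons 4 (nat_lit 0x2) <|
  Net.cons 2 (nat_lit 0x12) <|
  Net.cons 1 (nat_lit 0x4) <|
  Net.nil

noncomputable def n5 : Net :=
  Net.cons 2 (nat_lit 0x1) <|
  Net.cons 1 (nat_lit 0x10) <|
  Net.nil

noncomputable def nets : List Net := [n0, n1, n2, n3, n4, n5]

theorem ok : netsOk 7 nets = true := by decide +kernel

def rels : List (List ℕ) := [[0,1],[1,0],[0,0,0],[2,2],[0,2,0,2,0,2],[3,3],[0,3,2,0,3,2,3,1,2],[4,4],[3,4,3,4,3,4],[0,2,3,4,1,2,3,4,3],[5,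
  5],[0,2,5,3,2,5,3],[2,4,2,5,4,2,5,4,5]]

theorem plhP_3 : ∀ p < 3, chkPl nets 7 3 rels p = true :=
  forall_lt_add (a := 0) (b := 3) (fun _ h => absurd h (Nat.not_lt_zero _)) (by decide +kernel)

theorem hP : ∀ r ∈ rels, ev (PP nets) r = 1 := ev_eq_one_of_planes ok (by decide) plhP_3

noncomputable def K0_0 : ℕ := (joinL 7 [(nat_lit 0x0),
  (nat_lit 0x60),
  (nat_lit 0x0),
  (nat_lit 0x0),
  (nat_lit 0x0),
  (nat_lit 0x0)])

theorem df0 : chkDef nets 7 3 rels (ivl 0 42) (nat_lit 0x0) 2 K0_0 = true := by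
  decide +kernel

noncomputable def K0_1 : ℕ := (joinL 7 [(nat_lit 0x68),
  (nat_lit 0x68),
  (nat_lit 0x0),
  (nat_lit 0x0),
  (nat_lit 0x0),
  (nat_lit 0x0)])

theorem dd0_0 : chkDed nets 7 3 rels (letS []) (nat_lit 0x8020000100400000002) 3 K0_0 K0_1 = true := by
  decide +kernel

theorem en0 : chkEnd nets 7 3 3 rels [0,1] (nat_lit 0x68) 3 K0_1 = true := by decide +kernel

theorem up0 {H : Type*} [Group H] {g : ℕ → H} (hg : ∀ r ∈ rels, ev g r = 1) : CardLe (genL g [0,1]) 3 :=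
  CardLe.lev ok hg (ded_let ok (by decide) hg hP dd0_0 (defPhase_sound _ ok hg hP df0))
    en0 (cardLe_nil g)

noncomputable def K1_0 : ℕ := (joinL 7 [(nat_lit 0x0),
  (nat_lit 0x8),
  (nat_lit 0x60),
  (nat_lit 0x0),
  (nat_lit 0x0),
  (nat_lit 0x0)])

theorem df1 : chkDef nets 7 4 rels (ivl 0 42) (nat_lit 0x30000000000000003) 3 K1_0 = true := by
  decide +kernel

noncomputable def K1_1 : ℕ := (joinL 7 [(nat_lit 0x78),
  (nat_lit 0x78),
  (nat_lit 0x78),
  (nat_lit 0x0),
  (nat_lit 0x0),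
  (nat_lit 0x0)])

theorem dd1_0 : chkDed nets 7 4 rels (letS [0,1]) (nat_lit 0x100000003000008060000080200002008000000020000100400000002) 8 K1_0 K1_1 = true := by
  decide +kernel

theorem en1 : chkEnd nets 7 3 4 rels [0,1,2] (nat_lit 0x78) 4 K1_1 = true := by decide +kernel

theorem up1 {H : Type*} [Group H] {g : ℕ → H} (hg : ∀ r ∈ rels, ev g r = 1) : CardLe (genL g [0,1,2]) 12 :=
  CardLe.lev ok hg (ded_let ok (by decide) hg hP dd1_0 (defPhase_sound _ ok hg hP df1))
    en1 (up0 hg)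

noncomputable def K2_0 : ℕ := (joinL 7 [(nat_lit 0x0),
  (nat_lit 0x8),
  (nat_lit 0x60),
  (nat_lit 0x10),
  (nat_lit 0x0),
  (nat_lit 0x0)])

theorem df2 : chkDef nets 7 1 rels (ivl 0 42) (nat_lit 0x5000000030000000000000003) 4 K2_0 = true := by
  decide +kernel

noncomputable def K2_1 : ℕ := (joinL 7 [(nat_lit 0x7a),
  (nat_lit 0x7a),
  (nat_lit 0x7a),
  (nat_lit 0x7a),
  (nat_lit 0x0),
  (nat_lit 0x0)])

theorem dd2_0 : chkDed nets 7 1 rels (letS [0,1,2]) (nat_lit 0x1000000030000000500000806000008020000080a0000200c0000080a0000000c00000002000020080000000200001004000000020000300c) 15 K2_0 K2_1 = true := by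
  decide +kernel

theorem en2 : chkEnd nets 7 3 1 rels [0,1,2,3] (nat_lit 0x7a) 5 K2_1 = true := by decide +kernel

theorem up2 {H : Type*} [Group H] {g : ℕ → H} (hg : ∀ r ∈ rels, ev g r = 1) : CardLe (genL g [0,1,2,3]) 60 :=
  CardLe.lev ok hg (ded_let ok (by decide) hg hP dd2_0 (defPhase_sound _ ok hg hP df2))
    en2 (up1 hg)

noncomputable def K3_0 : ℕ := (joinL 7 [(nat_lit 0x0),
  (nat_lit 0x0),
  (nat_lit 0x50),
  (nat_lit 0xa),
  (nat_lit 0x20),
  (nat_lit 0x0)])

theorem df3 : chkDef nets 7 2 rels (ivl 0 42) (nat_lit 0x7000000030000000500000003) 4 K3_0 = true := by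
  decide +kernel

noncomputable def K3_1 : ℕ := (joinL 7 [(nat_lit 0x7e),
  (nat_lit 0x7e),
  (nat_lit 0x7e),
  (nat_lit 0x7e),
  (nat_lit 0x7e),
  (nat_lit 0x0)])

theorem dd3_0 : chkDed nets 7 2 rels (letS [0,1,2,3]) (nat_lit 0x1000000030000000500000007000008060000080a0000080e0000281000002012000000120000080200000002000010040000300c0000000200002008000000020000280c00003812000018120000080e0000180c00000002) 23 K3_0 K3_1 = true := by
  decide +kernel

theorem en3 : chkEnd nets 7 3 2 rels [0,1,2,3,4] (nat_lit 0x7e) 6 K3_1 = true := by decide +kernel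

theorem up3 {H : Type*} [Group H] {g : ℕ → H} (hg : ∀ r ∈ rels, ev g r = 1) : CardLe (genL g [0,1,2,3,4]) 360 :=
  CardLe.lev ok hg (ded_let ok (by decide) hg hP dd3_0 (defPhase_sound _ ok hg hP df3))
    en3 (up2 hg)

noncomputable def K4_0 : ℕ := (joinL 7 [(nat_lit 0x0),
  (nat_lit 0x0),
  (nat_lit 0x40),
  (nat_lit 0xa),
  (nat_lit 0x20),
  (nat_lit 0x14)])

theorem df4 : chkDef nets 7 0 rels (ivl 0 42) (nat_lit 0xa000000070000000a0000000500000003) 5 K4_0 = true := by
  decide +kernel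

noncomputable def K4_1 : ℕ := (joinL 7 [(nat_lit 0x7f),
  (nat_lit 0x7f),
  (nat_lit 0x7f),
  (nat_lit 0x7f),
  (nat_lit 0x7f),
  (nat_lit 0x7f)])

theorem dd4_0 : chkDed nets 7 0 rels (letS [0,1,2,3,4]) (nat_lit 0x100000003000000050000000700000009000008140000080a000008060000080e000028180000080600001018000018160000001600002810000000020000201200000012000008020000000200001016000010040000300c000000020000200800002816000000020000280c00003812000018120000080e000028160000180c00000002) 34 K4_0 K4_1 = true := by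
  decide +kernel

theorem en4 : chkEnd nets 7 3 0 rels (List.range 6) (nat_lit 0x7f) 7 K4_1 = true := by decide +kernel

theorem up {H : Type*} [Group H] {g : ℕ → H} (hg : ∀ r ∈ rels, ev g r = 1) : CardLe (genL g (List.range 6)) 2520 :=
  CardLe.lev ok hg (ded_let ok (by decide) hg hP dd4_0 (defPhase_sound _ ok hg hP df4))
    en4 (up3 hg)

theorem lo0 : CardGe (genL (PP nets) [0,1]) 3 :=
  CardGe.stepL (L := 3) (b := 3) (n := 3) (ys := []) (prog := [1,1]) ok (cardGe_one _)
    (genL_mono _ (by decide)) (by decide +kernel) (by decide +kernel)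

theorem lo1 : CardGe (genL (PP nets) [0,1,2]) 12 :=
  CardGe.stepL (L := 3) (b := 4) (n := 4) (ys := [0,1]) (prog := [2,1,2]) ok (lo0)
    (genL_mono _ (by decide)) (by decide +kernel) (by decide +kernel)

theorem lo2 : CardGe (genL (PP nets) [0,1,2,3]) 60 :=
  CardGe.stepL (L := 3) (b := 1) (n := 5) (ys := [0,1,2]) (prog := [3,2,3,2]) ok (lo1)
    (genL_mono _ (by decide)) (by decide +kernel) (by decide +kernel)

theorem lo3 : CardGe (genL (PP nets) [0,1,2,3,4]) 360 :=
  CardGe.stepL (L := 3) (b := 2) (n := 6) (ys := [0,1,2,3]) (prog := [4,3,2,3]) ok (lo2)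
    (genL_mono _ (by decide)) (by decide +kernel) (by decide +kernel)

theorem lo4 : CardGe (genL (PP nets) (List.range 6)) 2520 :=
  CardGe.stepL (L := 3) (b := 0) (n := 7) (ys := [0,1,2,3,4]) (prog := [5,4,5,3,4]) ok (lo3)
    (genL_mono _ (by decide)) (by decide +kernel) (by decide +kernel)

/-- the group. -/
abbrev G : Type := PG nets 6

theorem lo : CardGe (PG nets 6) 2520 := lo4

theorem card : Nat.card G = 2520 := PG.card (up hP) lo

noncomputable abbrev g : ℕ → G := PG.g nets 6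

noncomputable abbrev φ : G →* Perm ℕ := (PG nets 6).subtype

theorem rep : PermRep g nets 7 6 φ := PG.rep ok

theorem hl : chkLet (List.range 6) rels = true := by decide +kernel

theorem hg : ∀ r ∈ rels, ev g r = 1 := PG.hg ok hl hP

theorem lifts : Lifts g 6 rels := PG.lifts ok hl hP (by decide) card fun _ _ _ h => up h

end Cfsg.Agent.Known.A7P
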