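import Cfsg.Agent.Known.Strong
import Cfsg.Agent.Known.NetTab

/-! PSL(3,4) as a permutation group `G` of degree 21 and order 20160 with a strong presentation (generated
certificate, helper25): `nets`, `rels`, `up`, `card`, `rep`, `hg`, `lifts`. -/

set_option maxRecDepth 100000
set_option exponentiation.threshold 100000

namespace Cfsg.Agent.Known.L34P

open Cfsg.Agent.Spor Equiv

noncomputable def n0 : Net :=
  Net.cons 1 (nat_lit 0x10100) <|
  Net.cons 4 (nat_lit 0x200) <|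
  Net.cons 8 (nat_lit 0x2) <|
  Net.cons 16 (nat_lit 0x2) <|
  Net.cons 8 (nat_lit 0x22) <|
  Net.cons 4 (nat_lit 0x10300) <|
  Net.cons 1 (nat_lit 0x54540) <|
  Net.nil

noncomputable def n1 : Net :=
  Net.cons 1 (nat_lit 0x10) <|
  Net.cons 4 (nat_lit 0xc) <|
  Net.cons 8 (nat_lit 0x3) <|
  Net.cons 16 (nat_lit 0x1f) <|
  Net.cons 8 (nat_lit 0x3) <|
  Net.cons 4 (nat_lit 0xc0c) <|
  Net.cons 1 (nat_lit 0x55550) <|
  Net.nil

noncomputable def n2 : Net :=
  Net.cons 1 (nat_lit 0x1000) <|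
  Net.cons 4 (nat_lit 0xc00) <|
  Net.cons 8 (nat_lit 0x1c) <|
  Net.cons 16 (nat_lit 0x1c) <|
  Net.cons 8 (nat_lit 0xfc) <|
  Net.cons 4 (nat_lit 0xc00) <|
  Net.cons 1 (nat_lit 0x55540) <|
  Net.nil

noncomputable def n3 : Net :=
  Net.cons 1 (nat_lit 0x44440) <|
  Net.cons 2 (nat_lit 0x10100) <|
  Net.cons 4 (nat_lit 0x400) <|
  Net.cons 8 (nat_lit 0x4) <|
  Net.cons 16 (nat_lit 0x4) <|
  Net.cons 8 (nat_lit 0x44) <|
  Net.cons 4 (nat_lit 0x10500) <|
  Net.cons 2 (nat_lit 0x32320) <|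
  Net.cons 1 (nat_lit 0x44440) <|
  Net.nil

noncomputable def n4 : Net :=
  Net.cons 1 (nat_lit 0x14150) <|
  Net.cons 2 (nat_lit 0x13220) <|
  Net.cons 4 (nat_lit 0x102) <|
  Net.cons 16 (nat_lit 0x2) <|
  Net.cons 8 (nat_lit 0x52) <|
  Net.cons 4 (nat_lit 0x1080a) <|
  Net.cons 2 (nat_lit 0x10320) <|
  Net.cons 1 (nat_lit 0x51054) <|
  Net.nil

noncomputable def n5 : Net :=
  Net.cons 1 (nat_lit 0x44500) <|
  Net.cons 2 (nat_lit 0x11201) <|
  Net.cons 4 (nat_lit 0x4) <|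
  Net.cons 8 (nat_lit 0x4) <|
  Net.cons 16 (nat_lit 0x4) <|
  Net.cons 8 (nat_lit 0xa0) <|
  Net.cons 4 (nat_lit 0x10305) <|
  Net.cons 2 (nat_lit 0x12001) <|
  Net.cons 1 (nat_lit 0x1404) <|
  Net.nil

noncomputable def n6 : Net :=
  Net.cons 1 (nat_lit 0x15104) <|
  Net.cons 2 (nat_lit 0x2010) <|
  Net.cons 4 (nat_lit 0x200) <|
  Net.cons 8 (nat_lit 0x2) <|
  Net.cons 16 (nat_lit 0x2) <|
  Net.cons 8 (nat_lit 0x2) <|
  Net.cons 4 (nat_lit 0x10a04) <|
  Net.cons 2 (nat_lit 0x3112) <|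
  Net.cons 1 (nat_lit 0x55104) <|
  Net.nil

noncomputable def n7 : Net :=
  Net.cons 1 (nat_lit 0x10114) <|
  Net.cons 2 (nat_lit 0x20320) <|
  Net.cons 4 (nat_lit 0x10006) <|
  Net.cons 8 (nat_lit 0x8) <|
  Net.cons 16 (nat_lit 0x1e) <|
  Net.cons 8 (nat_lit 0xf6) <|
  Net.cons 4 (nat_lit 0xe0e) <|
  Net.cons 2 (nat_lit 0x23232) <|
  Net.cons 1 (nat_lit 0x45454) <|
  Net.nil

noncomputable def n8 : Net :=
  Net.cons 1 (nat_lit 0x5454) <|
  Net.cons 2 (nat_lit 0x10) <|
  Net.cons 4 (nat_lit 0xc02) <|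
  Net.cons 8 (nat_lit 0x1c) <|
  Net.cons 16 (nat_lit 0x1e) <|
  Net.cons 8 (nat_lit 0xe2) <|
  Net.cons 4 (nat_lit 0x10c0e) <|
  Net.cons 2 (nat_lit 0x12102) <|
  Net.cons 1 (nat_lit 0x10154) <|
  Net.nil

noncomputable def n9 : Net :=
  Net.cons 1 (nat_lit 0x50411) <|
  Net.cons 2 (nat_lit 0x33220) <|
  Net.cons 4 (nat_lit 0x208) <|
  Net.cons 16 (nat_lit 0xa) <|
  Net.cons 8 (nat_lit 0x24) <|
  Net.cons 4 (nat_lit 0x10b09) <|
  Net.cons 2 (nat_lit 0x33220) <|
  Net.cons 1 (nat_lit 0x50411) <|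
  Net.nil

noncomputable def nets : List Net := [n0, n1, n2, n3, n4, n5, n6, n7, n8, n9]

theorem ok : netsOk 21 nets = true := by decide +kernel

def rels : List (List ℕ) := [[0,0],[1,1],[2,2],[3,3],[2,3,2,3],[1,2,1,2],[1,3,1,3],[0,1,0,1],[0,2,0,2],[0,3,0,3],[4,5],[5,4],[4,4,4],[0,5,
  3,4],[0,3,4,3,5],[1,4,2,3,5],[0,1,5,1,2,4],[6,6],[7,8],[8,7],[1,7,1,7],[0,6,8,6,7],[2,3,6,2,6],[0,3,7,3,6,8],
  [2,3,7,4,8,8],[9,9],[2,9,2,9,2,9],[0,4,9,7,2,5,9],[4,9,4,9,4,9]]

theorem plhP_5 : ∀ p < 5, chkPl nets 21 5 rels p = true :=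
  forall_lt_add (a := 0) (b := 5) (fun _ h => absurd h (Nat.not_lt_zero _)) (by decide +kernel)

theorem hP : ∀ r ∈ rels, ev (PP nets) r = 1 := ev_eq_one_of_planes ok (by decide) plhP_5

noncomputable def K0_0 : ℕ := (joinL 21 [(nat_lit 0x100),
  (nat_lit 0x120000),
  (nat_lit 0x13200),
  (nat_lit 0xcccc0),
  (nat_lit 0x0),
  (nat_lit 0x0),
  (nat_lit 0x0),
  (nat_lit 0x0),
  (nat_lit 0x0),
  (nat_lit 0x0)])

theorem df0 : chkDef nets 21 5 rels (ivl 0 210) (nat_lit 0x10000000200000003) 4 K0_0 = true := by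
  decide +kernel

noncomputable def K0_1 : ℕ := (joinL 21 [(nat_lit 0x1fffe0),
  (nat_lit 0x1fffe0),
  (nat_lit 0x1fffe0),
  (nat_lit 0x1fffe0),
  (nat_lit 0x0),
  (nat_lit 0x0),
  (nat_lit 0x0),
  (nat_lit 0x0),
  (nat_lit 0x0),
  (nat_lit 0x0)])

theorem dd0_0 : chkDed nets 21 5 rels (letS []) (nat_lit 0x8060000080400000802000010080000100a0000100c00000800000010100000100e00001012) 10 K0_0 K0_1 = true := by
  decide +kernel

theorem en0 : chkEnd nets 21 5 5 rels [0,1,2,3] (nat_lit 0x1fffe0) 16 K0_1 = true := by decide +kernel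

theorem up0 {H : Type*} [Group H] {g : ℕ → H} (hg : ∀ r ∈ rels, ev g r = 1) : CardLe (genL g [0,1,2,3]) 16 :=
  CardLe.lev ok hg (ded_let ok (by decide) hg hP dd0_0 (defPhase_sound _ ok hg hP df0))
    en0 (cardLe_nil g)

noncomputable def K1_0 : ℕ := (joinL 21 [(nat_lit 0x0),
  (nat_lit 0x0),
  (nat_lit 0x0),
  (nat_lit 0x0),
  (nat_lit 0x0),
  (nat_lit 0x18),
  (nat_lit 0x0),
  (nat_lit 0x0),
  (nat_lit 0x0),
  (nat_lit 0x0)])

theorem df1 : chkDef nets 21 2 rels (ivl 0 210) (nat_lit 0xa0000000a) 2 K1_0 = true := by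
  decide +kernel

noncomputable def K1_1 : ℕ := (joinL 21 [(nat_lit 0x1c),
  (nat_lit 0x1c),
  (nat_lit 0x1c),
  (nat_lit 0x1c),
  (nat_lit 0x1c),
  (nat_lit 0x1c),
  (nat_lit 0x0),
  (nat_lit 0x0),
  (nat_lit 0x0),
  (nat_lit 0x0)])

theorem dd1_0 : chkDed nets 21 2 rels (letS [0,1,2,3]) (nat_lit 0x100000003000000050000000700000816000010180000001a0000181c000000160000001a0000101e0000181c000008200000101e0000001e) 15 K1_0 K1_1 = true := by
  decide +kernel

theorem en1 : chkEnd nets 21 5 2 rels [0,1,2,3,4,5] (nat_lit 0x1c) 3 K1_1 = true := by decide +kernel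

theorem up1 {H : Type*} [Group H] {g : ℕ → H} (hg : ∀ r ∈ rels, ev g r = 1) : CardLe (genL g [0,1,2,3,4,5]) 48 :=
  CardLe.lev ok hg (ded_let ok (by decide) hg hP dd1_0 (defPhase_sound _ ok hg hP df1))
    en1 (up0 hg)

noncomputable def K2_0 : ℕ := (joinL 21 [(nat_lit 0xa60),
  (nat_lit 0x1fe000),
  (nat_lit 0x0),
  (nat_lit 0x0),
  (nat_lit 0x0),
  (nat_lit 0x198),
  (nat_lit 0x4),
  (nat_lit 0x0),
  (nat_lit 0x1400),
  (nat_lit 0x0)])

theorem df2 : chkDef nets 21 1 rels (ivl 0 210) (nat_lit 0x11000000120000000a00000000000000010000000a) 6 K2_0 = true := by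
  decide +kernel

noncomputable def K2_1 : ℕ := (joinL 21 [(nat_lit 0x1ffffe),
  (nat_lit 0x1ffffe),
  (nat_lit 0x1ffffe),
  (nat_lit 0x1ffffe),
  (nat_lit 0x1ffffe),
  (nat_lit 0x1ffffe),
  (nat_lit 0x1ffffe),
  (nat_lit 0x1ffffe),
  (nat_lit 0x1ffffe),
  (nat_lit 0x0)])

theorem dd2_0 : chkDed nets 21 1 rels (letS [0,1,2,3,4,5]) (nat_lit 0x1000000030000000500000007000000090000000b0000080200000800000008160000100e000008260000082200001018000018280000082a0000203000000822000000160000082600000026000018280000182c0000182e00000026000008060000180c000018120000181a0000082c000000160000181c0000001a0000180c0000001e00002030000000300000282e0000102e0000002e00000804000008260000182a0000180a0000181000001008000010280000101a0000181c0000202e0000201e0000081e0000202c0000102c00002820000010200000202a000018280000001a0000101e00000026000028300000202c000020200000182000002030000010300000082600000026000018280000082a00002030) 71 K2_0 K2_1 = true := by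
  decide +kernel

theorem en2 : chkEnd nets 21 5 1 rels [0,1,2,3,4,5,6,7,8] (nat_lit 0x1ffffe) 20 K2_1 = true := by decide +kernel

theorem up2 {H : Type*} [Group H] {g : ℕ → H} (hg : ∀ r ∈ rels, ev g r = 1) : CardLe (genL g [0,1,2,3,4,5,6,7,8]) 960 :=
  CardLe.lev ok hg (ded_let ok (by decide) hg hP dd2_0 (defPhase_sound _ ok hg hP df2))
    en2 (up1 hg)

noncomputable def K3_0 : ℕ := (joinL 21 [(nat_lit 0x80000),
  (nat_lit 0xc0),
  (nat_lit 0xcc00),
  (nat_lit 0x133320),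
  (nat_lit 0x0),
  (nat_lit 0x0),
  (nat_lit 0x0),
  (nat_lit 0x0),
  (nat_lit 0x1e),
  (nat_lit 0x40000)])

theorem df3 : chkDef nets 21 0 rels (ivl 0 210) (nat_lit 0x190000000000000001000000020000000300000012) 6 K3_0 = true := by
  decide +kernel

noncomputable def K3_1 : ℕ := (joinL 21 [(nat_lit 0x1fffff),
  (nat_lit 0x1fffff),
  (nat_lit 0x1fffff),
  (nat_lit 0x1fffff),
  (nat_lit 0x1fffff),
  (nat_lit 0x1fffff),
  (nat_lit 0x1fffff),
  (nat_lit 0x1fffff),
  (nat_lit 0x1fffff),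
  (nat_lit 0x1fffff)])

theorem dd3_0 : chkDed nets 21 0 rels (letS [0,1,2,3,4,5,6,7,8]) (nat_lit 0x1000000030000000500000007000000090000000b0000000d0000000f0000001100000806000008040000082600000802000010080000100a0000100c0000080000000832000010100000100e000010120000283400000836000000160000081a0000201e0000201c00001020000008160000181a000000160000201e0000201c0000081e0000101c0000001600002838000018360000002600000832000018280000203000000826000000260000183000000016000010280000101800000016000028300000103600000826000020300000202e000018280000283000001030000030360000082600000822000000260000202c0000202e0000202c0000182a0000282e0000102e0000102800000026000008220000182a0000202c0000002a00002030000018300000182e00000016000008260000101e000020200000101a0000001a0000182a000010280000182c0000002a0000182e000010360000083200002838000008320000283400003036000010360000083200002838) 96 K3_0 K3_1 = true := by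
  decide +kernel

theorem en3 : chkEnd nets 21 5 0 rels (List.range 10) (nat_lit 0x1fffff) 21 K3_1 = true := by decide +kernel

theorem up {H : Type*} [Group H] {g : ℕ → H} (hg : ∀ r ∈ rels, ev g r = 1) : CardLe (genL g (List.range 10)) 20160 :=
  CardLe.lev ok hg (ded_let ok (by decide) hg hP dd3_0 (defPhase_sound _ ok hg hP df3))
    en3 (up2 hg)

theorem lo0 : CardGe (genL (PP nets) [0,1,2,3]) 16 :=
  CardGe.stepL (L := 5) (b := 5) (n := 16) (ys := []) (prog := [3,2,1,0]) ok (cardGe_one _)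
    (genL_mono _ (by decide)) (by decide +kernel) (by decide +kernel)

theorem lo1 : CardGe (genL (PP nets) [0,1,2,3,4,5]) 48 :=
  CardGe.stepL (L := 5) (b := 2) (n := 3) (ys := [0,1,2,3]) (prog := [5,5]) ok (lo0)
    (genL_mono _ (by decide)) (by decide +kernel) (by decide +kernel)

theorem lo2 : CardGe (genL (PP nets) [0,1,2,3,4,5,6,7,8]) 960 :=
  CardGe.stepL (L := 5) (b := 1) (n := 20) (ys := [0,1,2,3,4,5]) (prog := [8,6,5,8,0,8]) ok (lo1)
    (genL_mono _ (by decide)) (by decide +kernel) (by decide +kernel)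

theorem lo3 : CardGe (genL (PP nets) (List.range 10)) 20160 :=
  CardGe.stepL (L := 5) (b := 0) (n := 21) (ys := [0,1,2,3,4,5,6,7,8]) (prog := [9,8,5,3,2,8]) ok (lo2)
    (genL_mono _ (by decide)) (by decide +kernel) (by decide +kernel)

/-- the group. -/
abbrev G : Type := PG nets 10

theorem lo : CardGe (PG nets 10) 20160 := lo3

theorem card : Nat.card G = 20160 := PG.card (up hP) lo

noncomputable abbrev g : ℕ → G := PG.g nets 10

noncomputable abbrev φ : G →* Perm ℕ := (PG nets 10).subtype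

theorem rep : PermRep g nets 21 10 φ := PG.rep ok

theorem hl : chkLet (List.range 10) rels = true := by decide +kernel

theorem hg : ∀ r ∈ rels, ev g r = 1 := PG.hg ok hl hP

theorem lifts : Lifts g 10 rels := PG.lifts ok hl hP (by decide) card fun _ _ _ h => up h

end Cfsg.Agent.Known.L34P
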