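import Cfsg.Agent.Known.Strong
import Cfsg.Agent.Known.NetTab

/-! M11 as a permutation group `G` of degree 11 and order 7920 with a strong presentation (generated
certificate, helper25): `nets`, `rels`, `up`, `card`, `rep`, `hg`, `lifts`. -/

set_option maxRecDepth 100000
set_option exponentiation.threshold 100000

namespace Cfsg.Agent.Known.M11P

open Cfsg.Agent.Spor Equiv

noncomputable def n0 : Net :=
  Net.cons 4 (nat_lit 0x2) <|
  Net.cons 8 (nat_lit 0x2) <|
  Net.cons 4 (nat_lit 0xa) <|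
  Net.cons 2 (nat_lit 0x110) <|
  Net.nil

noncomputable def n1 : Net :=
  Net.cons 1 (nat_lit 0x150) <|
  Net.cons 2 (nat_lit 0x100) <|
  Net.cons 4 (nat_lit 0x1) <|
  Net.cons 8 (nat_lit 0x1) <|
  Net.cons 4 (nat_lit 0x9) <|
  Net.cons 2 (nat_lit 0x20) <|
  Net.cons 1 (nat_lit 0x10) <|
  Net.nil

noncomputable def n2 : Net :=
  Net.cons 1 (nat_lit 0x10) <|
  Net.cons 2 (nat_lit 0x20) <|
  Net.cons 4 (nat_lit 0x1) <|
  Net.cons 8 (nat_lit 0x1) <|
  Net.cons 4 (nat_lit 0x9) <|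
  Net.cons 2 (nat_lit 0x100) <|
  Net.cons 1 (nat_lit 0x150) <|
  Net.nil

noncomputable def n3 : Net :=
  Net.cons 1 (nat_lit 0x44) <|
  Net.cons 2 (nat_lit 0x30) <|
  Net.cons 4 (nat_lit 0x3) <|
  Net.cons 8 (nat_lit 0x7) <|
  Net.cons 4 (nat_lit 0x3) <|
  Net.cons 2 (nat_lit 0x110) <|
  Net.cons 1 (nat_lit 0x54) <|
  Net.nil

noncomputable def n4 : Net :=
  Net.cons 1 (nat_lit 0x4) <|
  Net.cons 2 (nat_lit 0x120) <|
  Net.cons 4 (nat_lit 0x3) <|
  Net.cons 8 (nat_lit 0x7) <|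
  Net.cons 4 (nat_lit 0x3) <|
  Net.cons 2 (nat_lit 0x30) <|
  Net.cons 1 (nat_lit 0x154) <|
  Net.nil

noncomputable def n5 : Net :=
  Net.cons 1 (nat_lit 0x14) <|
  Net.cons 2 (nat_lit 0x20) <|
  Net.cons 4 (nat_lit 0x3) <|
  Net.cons 8 (nat_lit 0x7) <|
  Net.cons 4 (nat_lit 0xb) <|
  Net.cons 2 (nat_lit 0x20) <|
  Net.cons 1 (nat_lit 0x14) <|
  Net.nil

noncomputable def n6 : Net :=
  Net.cons 2 (nat_lit 0x20) <|
  Net.cons 4 (nat_lit 0x2) <|
  Net.cons 2 (nat_lit 0x30) <|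
  Net.cons 1 (nat_lit 0x104) <|
  Net.nil

noncomputable def n7 : Net :=
  Net.cons 1 (nat_lit 0x40) <|
  Net.cons 4 (nat_lit 0x7) <|
  Net.cons 2 (nat_lit 0x100) <|
  Net.cons 1 (nat_lit 0x51) <|
  Net.nil

noncomputable def nets : List Net := [n0, n1, n2, n3, n4, n5, n6, n7]

theorem ok : netsOk 11 nets = true := by decide +kernel

def rels : List (List ℕ) := [[0,0],[1,2],[2,1],[3,4],[4,3],[0,1,1],[0,3,3],[1,3,1,4],[5,5],[1,3,5,1,5,3,5],[6,6],[3,6,4,6,5,6],[0,5,6,4,6,
  1,4,6],[7,7],[1,7,1,7,1,7,6],[0,5,7,2,5,3,7,1,7]]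

theorem plhP_4 : ∀ p < 4, chkPl nets 11 4 rels p = true :=
  forall_lt_add (a := 0) (b := 4) (fun _ h => absurd h (Nat.not_lt_zero _)) (by decide +kernel)

theorem hP : ∀ r ∈ rels, ev (PP nets) r = 1 := ev_eq_one_of_planes ok (by decide) plhP_4

noncomputable def K0_0 : ℕ := (joinL 11 [(nat_lit 0x80),
  (nat_lit 0x0),
  (nat_lit 0x50),
  (nat_lit 0x0),
  (nat_lit 0x720),
  (nat_lit 0x0),
  (nat_lit 0x0),
  (nat_lit 0x0)])

theorem df0 : chkDef nets 11 3 rels (ivl 0 88) (nat_lit 0x100000003) 3 K0_0 = true := by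
  decide +kernel

noncomputable def K0_1 : ℕ := (joinL 11 [(nat_lit 0x7f8),
  (nat_lit 0x7f8),
  (nat_lit 0x7f8),
  (nat_lit 0x7f8),
  (nat_lit 0x7f8),
  (nat_lit 0x0),
  (nat_lit 0x0),
  (nat_lit 0x0)])

theorem dd0_0 : chkDed nets 11 3 rels (letS []) (nat_lit 0x80800000804000008000000100c0000100a0000100e000000040000000a000000080000100c0000180e) 11 K0_0 K0_1 = true := by
  decide +kernel

theorem en0 : chkEnd nets 11 4 3 rels [0,1,2,3,4] (nat_lit 0x7f8) 8 K0_1 = true := by decide +kernel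

theorem up0 {H : Type*} [Group H] {g : ℕ → H} (hg : ∀ r ∈ rels, ev g r = 1) : CardLe (genL g [0,1,2,3,4]) 8 :=
  CardLe.lev ok hg (ded_let ok (by decide) hg hP dd0_0 (defPhase_sound _ ok hg hP df0))
    en0 (cardLe_nil g)

noncomputable def K1_0 : ℕ := (joinL 11 [(nat_lit 0x40),
  (nat_lit 0x0),
  (nat_lit 0x88),
  (nat_lit 0x0),
  (nat_lit 0x720),
  (nat_lit 0x10),
  (nat_lit 0x0),
  (nat_lit 0x0)])

theorem df1 : chkDef nets 11 2 rels (ivl 0 88) (nat_lit 0x8000000000000000100000003) 4 K1_0 = true := by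
  decide +kernel

noncomputable def K1_1 : ℕ := (joinL 11 [(nat_lit 0x7fc),
  (nat_lit 0x7fc),
  (nat_lit 0x7fc),
  (nat_lit 0x7fc),
  (nat_lit 0x7fc),
  (nat_lit 0x7fc),
  (nat_lit 0x0),
  (nat_lit 0x0)])

theorem dd1_0 : chkDed nets 11 2 rels (letS [0,1,2,3,4]) (nat_lit 0x100000003000000050000000700000009000008080000080400000800000008100000100c0000100a0000100e000000040000000a000000080000100c0000180e0000301200002012000010120000081000003012) 22 K1_0 K1_1 = true := by
  decide +kernel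

theorem en1 : chkEnd nets 11 4 2 rels [0,1,2,3,4,5] (nat_lit 0x7fc) 9 K1_1 = true := by decide +kernel

theorem up1 {H : Type*} [Group H] {g : ℕ → H} (hg : ∀ r ∈ rels, ev g r = 1) : CardLe (genL g [0,1,2,3,4,5]) 72 :=
  CardLe.lev ok hg (ded_let ok (by decide) hg hP dd1_0 (defPhase_sound _ ok hg hP df1))
    en1 (up0 hg)

noncomputable def K2_0 : ℕ := (joinL 11 [(nat_lit 0x8),
  (nat_lit 0x0),
  (nat_lit 0x50),
  (nat_lit 0x0),
  (nat_lit 0x720),
  (nat_lit 0x0),
  (nat_lit 0x84),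
  (nat_lit 0x0)])

theorem df2 : chkDef nets 11 1 rels (ivl 0 88) (nat_lit 0xa0000000000000001000000030000000a) 5 K2_0 = true := by
  decide +kernel

noncomputable def K2_1 : ℕ := (joinL 11 [(nat_lit 0x7fe),
  (nat_lit 0x7fe),
  (nat_lit 0x7fe),
  (nat_lit 0x7fe),
  (nat_lit 0x7fe),
  (nat_lit 0x7fe),
  (nat_lit 0x7fe),
  (nat_lit 0x0)])

theorem dd2_0 : chkDed nets 11 1 rels (letS [0,1,2,3,4,5]) (nat_lit 0x1000000030000000500000007000000090000000b000008080000081400000804000008000000100c0000100a0000100e00000816000000040000000a000000080000100c0000180e000020180000081800000814000008100000201600001016000008080000201200003818000028180000301200000004000008160000000c00002016) 34 K2_0 K2_1 = true := by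
  decide +kernel

theorem en2 : chkEnd nets 11 4 1 rels [0,1,2,3,4,5,6] (nat_lit 0x7fe) 10 K2_1 = true := by decide +kernel

theorem up2 {H : Type*} [Group H] {g : ℕ → H} (hg : ∀ r ∈ rels, ev g r = 1) : CardLe (genL g [0,1,2,3,4,5,6]) 720 :=
  CardLe.lev ok hg (ded_let ok (by decide) hg hP dd2_0 (defPhase_sound _ ok hg hP df2))
    en2 (up1 hg)

noncomputable def K3_0 : ℕ := (joinL 11 [(nat_lit 0x200),
  (nat_lit 0x0),
  (nat_lit 0x500),
  (nat_lit 0x0),
  (nat_lit 0xd8),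
  (nat_lit 0x0),
  (nat_lit 0x6),
  (nat_lit 0x20)])

theorem df3 : chkDef nets 11 0 rels (ivl 0 88) (nat_lit 0xd0000000000000001000000030000000a) 5 K3_0 = true := by
  decide +kernel

noncomputable def K3_1 : ℕ := (joinL 11 [(nat_lit 0x7ff),
  (nat_lit 0x7ff),
  (nat_lit 0x7ff),
  (nat_lit 0x7ff),
  (nat_lit 0x7ff),
  (nat_lit 0x7ff),
  (nat_lit 0x7ff),
  (nat_lit 0x7ff)])

theorem dd3_0 : chkDed nets 11 0 rels (letS [0,1,2,3,4,5,6]) (nat_lit 0x1000000030000000500000007000000090000000b0000000d0000080800000814000008040000081a000008000000100c0000100a0000100e000000040000000a000000080000100c0000180e0000181c0000081a0000301c000020160000201e0000081e00000810000030120000101600000016000020180000201200000814000028160000000c000008140000081800000016000000080000000c0000181c00002818000000040000101e0000081a0000281c0000081c0000401e) 48 K3_0 K3_1 = true := by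
  decide +kernel

theorem en3 : chkEnd nets 11 4 0 rels (List.range 8) (nat_lit 0x7ff) 11 K3_1 = true := by decide +kernel

theorem up {H : Type*} [Group H] {g : ℕ → H} (hg : ∀ r ∈ rels, ev g r = 1) : CardLe (genL g (List.range 8)) 7920 :=
  CardLe.lev ok hg (ded_let ok (by decide) hg hP dd3_0 (defPhase_sound _ ok hg hP df3))
    en3 (up2 hg)

theorem lo0 : CardGe (genL (PP nets) [0,1,2,3,4]) 8 :=
  CardGe.stepL (L := 4) (b := 3) (n := 8) (ys := []) (prog := [4,2,0]) ok (cardGe_one _)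
    (genL_mono _ (by decide)) (by decide +kernel) (by decide +kernel)

theorem lo1 : CardGe (genL (PP nets) [0,1,2,3,4,5]) 72 :=
  CardGe.stepL (L := 4) (b := 2) (n := 9) (ys := [0,1,2,3,4]) (prog := [5,4,2,0]) ok (lo0)
    (genL_mono _ (by decide)) (by decide +kernel) (by decide +kernel)

theorem lo2 : CardGe (genL (PP nets) [0,1,2,3,4,5,6]) 720 :=
  CardGe.stepL (L := 4) (b := 1) (n := 10) (ys := [0,1,2,3,4,5]) (prog := [6,5,4,0,6]) ok (lo1)
    (genL_mono _ (by decide)) (by decide +kernel) (by decide +kernel)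

theorem lo3 : CardGe (genL (PP nets) (List.range 8)) 7920 :=
  CardGe.stepL (L := 4) (b := 0) (n := 11) (ys := [0,1,2,3,4,5,6]) (prog := [7,5,4,0,7]) ok (lo2)
    (genL_mono _ (by decide)) (by decide +kernel) (by decide +kernel)

/-- the group. -/
abbrev G : Type := PG nets 8

theorem lo : CardGe (PG nets 8) 7920 := lo3

theorem card : Nat.card G = 7920 := PG.card (up hP) lo

noncomputable abbrev g : ℕ → G := PG.g nets 8

noncomputable abbrev φ : G →* Perm ℕ := (PG nets 8).subtype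

theorem rep : PermRep g nets 11 8 φ := PG.rep ok

theorem hl : chkLet (List.range 8) rels = true := by decide +kernel

theorem hg : ∀ r ∈ rels, ev g r = 1 := PG.hg ok hl hP

theorem lifts : Lifts g 8 rels := PG.lifts ok hl hP (by decide) card fun _ _ _ h => up h

end Cfsg.Agent.Known.M11P
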