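import Cfsg.Agent.Known.Strong
import Cfsg.Agent.Known.NetTab

/-! M12 as a permutation group `G` of degree 12 and order 95040 with a strong presentation (generated
certificate, helper25): `nets`, `rels`, `up`, `card`, `rep`, `hg`, `lifts`. -/

set_option maxRecDepth 100000
set_option exponentiation.threshold 100000

namespace Cfsg.Agent.Known.M12P

open Cfsg.Agent.Spor Equiv

noncomputable def n0 : Net :=
  Net.cons 2 (nat_lit 0x100) <|
  Net.cons 4 (nat_lit 0x9) <|
  Net.cons 8 (nat_lit 0x9) <|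
  Net.cons 4 (nat_lit 0x9) <|
  Net.cons 2 (nat_lit 0x20) <|
  Net.cons 1 (nat_lit 0x550) <|
  Net.nil

noncomputable def n1 : Net :=
  Net.cons 2 (nat_lit 0x100) <|
  Net.cons 4 (nat_lit 0x3) <|
  Net.cons 8 (nat_lit 0x3) <|
  Net.cons 4 (nat_lit 0x3) <|
  Net.cons 2 (nat_lit 0x310) <|
  Net.cons 1 (nat_lit 0x550) <|
  Net.nil

noncomputable def n2 : Net :=
  Net.cons 4 (nat_lit 0xb) <|
  Net.cons 8 (nat_lit 0xb) <|
  Net.cons 4 (nat_lit 0xb) <|
  Net.cons 2 (nat_lit 0x130) <|
  Net.nil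

noncomputable def n3 : Net :=
  Net.cons 4 (nat_lit 0xe) <|
  Net.cons 8 (nat_lit 0xe) <|
  Net.cons 4 (nat_lit 0xe) <|
  Net.cons 2 (nat_lit 0x310) <|
  Net.nil

noncomputable def n4 : Net :=
  Net.cons 1 (nat_lit 0x10) <|
  Net.cons 2 (nat_lit 0x200) <|
  Net.cons 4 (nat_lit 0x5) <|
  Net.cons 8 (nat_lit 0xd) <|
  Net.cons 4 (nat_lit 0x5) <|
  Net.cons 2 (nat_lit 0x330) <|
  Net.cons 1 (nat_lit 0x10) <|
  Net.nil

noncomputable def n5 : Net :=
  Net.cons 4 (nat_lit 0x8) <|
  Net.cons 8 (nat_lit 0x8) <|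
  Net.cons 4 (nat_lit 0xc) <|
  Net.cons 1 (nat_lit 0x110) <|
  Net.nil

noncomputable def n6 : Net :=
  Net.cons 2 (nat_lit 0x230) <|
  Net.cons 4 (nat_lit 0x9) <|
  Net.cons 8 (nat_lit 0x9) <|
  Net.cons 4 (nat_lit 0xf) <|
  Net.cons 2 (nat_lit 0x230) <|
  Net.nil

noncomputable def n7 : Net :=
  Net.cons 1 (nat_lit 0x40) <|
  Net.cons 2 (nat_lit 0x230) <|
  Net.cons 4 (nat_lit 0x2) <|
  Net.cons 8 (nat_lit 0xe) <|
  Net.cons 4 (nat_lit 0x3) <|
  Net.cons 2 (nat_lit 0x230) <|
  Net.cons 1 (nat_lit 0x40) <|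
  Net.nil

noncomputable def nets : List Net := [n0, n1, n2, n3, n4, n5, n6, n7]

theorem ok : netsOk 12 nets = true := by decide +kernel

def rels : List (List ℕ) := [[0,1],[1,0],[2,3],[3,2],[0,0,2,2],[0,2,0,3],[4,4],[0,2,4,1,4,3,4],[5,5],[0,2,5,1,5,3,5],[0,0,4,0,5,4,2,5],[6,
  6],[0,0,6,2,6,3,6],[0,2,6,5,4,3,6,4],[0,5,6,2,5,6,3,5],[7,7],[0,3,4,7,5,0,4,7],[4,7,4,7,4,7],[0,6,7,6,2,6,7,6,
  4]]

theorem plhP_4 : ∀ p < 4, chkPl nets 12 4 rels p = true :=
  forall_lt_add (a := 0) (b := 4) (fun _ h => absurd h (Nat.not_lt_zero _)) (by decide +kernel)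

theorem hP : ∀ r ∈ rels, ev (PP nets) r = 1 := ev_eq_one_of_planes ok (by decide) plhP_4

noncomputable def K0_0 : ℕ := (joinL 12 [(nat_lit 0x0),
  (nat_lit 0x220),
  (nat_lit 0x0),
  (nat_lit 0xdc0),
  (nat_lit 0x0),
  (nat_lit 0x0),
  (nat_lit 0x0),
  (nat_lit 0x0)])

theorem df0 : chkDef nets 12 4 rels (ivl 0 96) (nat_lit 0x2000000000000000200000002) 4 K0_0 = true := by
  decide +kernel

noncomputable def K0_1 : ℕ := (joinL 12 [(nat_lit 0xff0),
  (nat_lit 0xff0),
  (nat_lit 0xff0),
  (nat_lit 0xff0),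
  (nat_lit 0x0),
  (nat_lit 0x0),
  (nat_lit 0x0),
  (nat_lit 0x0)])

theorem dd0_0 : chkDed nets 12 4 rels (letS []) (nat_lit 0x806000008020000100a00000008000000020000180a000008060000080800000008000010080000000200000006) 12 K0_0 K0_1 = true := by
  decide +kernel

theorem en0 : chkEnd nets 12 4 4 rels [0,1,2,3] (nat_lit 0xff0) 8 K0_1 = true := by decide +kernel

theorem up0 {H : Type*} [Group H] {g : ℕ → H} (hg : ∀ r ∈ rels, ev g r = 1) : CardLe (genL g [0,1,2,3]) 8 :=
  CardLe.lev ok hg (ded_let ok (by decide) hg hP dd0_0 (defPhase_sound _ ok hg hP df0))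
    en0 (cardLe_nil g)

noncomputable def K1_0 : ℕ := (joinL 12 [(nat_lit 0x0),
  (nat_lit 0x500),
  (nat_lit 0x0),
  (nat_lit 0x880),
  (nat_lit 0x270),
  (nat_lit 0x0),
  (nat_lit 0x0),
  (nat_lit 0x0)])

theorem df1 : chkDef nets 12 3 rels (ivl 0 96) (nat_lit 0x600000002000000000000000600000002) 5 K1_0 = true := by
  decide +kernel

noncomputable def K1_1 : ℕ := (joinL 12 [(nat_lit 0xff8),
  (nat_lit 0xff8),
  (nat_lit 0xff8),
  (nat_lit 0xff8),
  (nat_lit 0xff8),
  (nat_lit 0x0),
  (nat_lit 0x0),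
  (nat_lit 0x0)])

theorem dd1_0 : chkDed nets 12 3 rels (letS [0,1,2,3]) (nat_lit 0x10000000300000005000000070000080c00000806000008020000180e0000080e00000006000008020000100a000000020000180a0000180800001008000000080000000600000806000000020000100a0000200e0000180e0000000e0000180a0000080a00001808000000080000000600000002) 30 K1_0 K1_1 = true := by
  decide +kernel

theorem en1 : chkEnd nets 12 4 3 rels [0,1,2,3,4] (nat_lit 0xff8) 9 K1_1 = true := by decide +kernel

theorem up1 {H : Type*} [Group H] {g : ℕ → H} (hg : ∀ r ∈ rels, ev g r = 1) : CardLe (genL g [0,1,2,3,4]) 72 :=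
  CardLe.lev ok hg (ded_let ok (by decide) hg hP dd1_0 (defPhase_sound _ ok hg hP df1))
    en1 (up0 hg)

noncomputable def K2_0 : ℕ := (joinL 12 [(nat_lit 0x0),
  (nat_lit 0x280),
  (nat_lit 0x0),
  (nat_lit 0x10),
  (nat_lit 0x408),
  (nat_lit 0x960),
  (nat_lit 0x0),
  (nat_lit 0x0)])

theorem df2 : chkDef nets 12 2 rels (ivl 0 96) (nat_lit 0x800000002000000000000000800000006) 5 K2_0 = true := by
  decide +kernel

noncomputable def K2_1 : ℕ := (joinL 12 [(nat_lit 0xffc),
  (nat_lit 0xffc),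
  (nat_lit 0xffc),
  (nat_lit 0xffc),
  (nat_lit 0xffc),
  (nat_lit 0xffc),
  (nat_lit 0x0),
  (nat_lit 0x0)])

theorem dd2_0 : chkDed nets 12 2 rels (letS [0,1,2,3,4]) (nat_lit 0x10000000300000005000000070000000900000810000008020000080c00000806000018120000081200000006000008020000100a000000020000180a0000180800001008000008140000000600000806000000020000180a00000808000018120000081200000012000008060000000600001808000000020000180a000000080000000200002814000020120000300e0000180e00001014000008020000080c0000280e0000080600003814) 44 K2_0 K2_1 = true := by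
  decide +kernel

theorem en2 : chkEnd nets 12 4 2 rels [0,1,2,3,4,5] (nat_lit 0xffc) 10 K2_1 = true := by decide +kernel

theorem up2 {H : Type*} [Group H] {g : ℕ → H} (hg : ∀ r ∈ rels, ev g r = 1) : CardLe (genL g [0,1,2,3,4,5]) 720 :=
  CardLe.lev ok hg (ded_let ok (by decide) hg hP dd2_0 (defPhase_sound _ ok hg hP df2))
    en2 (up1 hg)

noncomputable def K3_0 : ℕ := (joinL 12 [(nat_lit 0x0),
  (nat_lit 0x410),
  (nat_lit 0x0),
  (nat_lit 0x920),
  (nat_lit 0x8),
  (nat_lit 0x0),
  (nat_lit 0x2c4),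
  (nat_lit 0x0)])

theorem df3 : chkDef nets 12 1 rels (ivl 0 96) (nat_lit 0xb0000000200000000000000020000000b00000006) 6 K3_0 = true := by
  decide +kernel

noncomputable def K3_1 : ℕ := (joinL 12 [(nat_lit 0xffe),
  (nat_lit 0xffe),
  (nat_lit 0xffe),
  (nat_lit 0xffe),
  (nat_lit 0xffe),
  (nat_lit 0xffe),
  (nat_lit 0xffe),
  (nat_lit 0x0)])

theorem dd3_0 : chkDed nets 12 1 rels (letS [0,1,2,3,4,5]) (nat_lit 0x1000000030000000500000007000000090000000b0000081600000806000008020000080c0000100a000020180000201c000008100000000200001008000000060000100a0000101200000002000018180000201a000000060000000a0000100800000006000000020000100a000000020000381c0000081c0000381a000008100000080c000028140000301c0000181c0000101c00000806000000060000100a000000020000101400002818000018180000081c0000280e0000180e0000181a000008060000080200001812000000120000381a0000301a00003814) 56 K3_0 K3_1 = true := by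
  decide +kernel

theorem en3 : chkEnd nets 12 4 1 rels [0,1,2,3,4,5,6] (nat_lit 0xffe) 11 K3_1 = true := by decide +kernel

theorem up3 {H : Type*} [Group H] {g : ℕ → H} (hg : ∀ r ∈ rels, ev g r = 1) : CardLe (genL g [0,1,2,3,4,5,6]) 7920 :=
  CardLe.lev ok hg (ded_let ok (by decide) hg hP dd3_0 (defPhase_sound _ ok hg hP df3))
    en3 (up2 hg)

noncomputable def K4_0 : ℕ := (joinL 12 [(nat_lit 0x0),
  (nat_lit 0x410),
  (nat_lit 0x0),
  (nat_lit 0x920),
  (nat_lit 0x8),
  (nat_lit 0x0),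
  (nat_lit 0x246),
  (nat_lit 0x80)])

theorem df4 : chkDef nets 12 0 rels (ivl 0 96) (nat_lit 0xf0000000200000000000000020000000b00000006) 6 K4_0 = true := by
  decide +kernel

noncomputable def K4_1 : ℕ := (joinL 12 [(nat_lit 0xfff),
  (nat_lit 0xfff),
  (nat_lit 0xfff),
  (nat_lit 0xfff),
  (nat_lit 0xfff),
  (nat_lit 0xfff),
  (nat_lit 0xfff),
  (nat_lit 0xfff)])

theorem dd4_0 : chkDed nets 12 0 rels (letS [0,1,2,3,4,5,6]) (nat_lit 0x1000000030000000500000007000000090000000b0000000d0000081600000806000008020000081e0000080c0000100a0000000200001008000000060000100a00000002000010200000080c00002020000020240000081000000006000010120000181800002822000000060000000a0000100800000006000000020000100a00000002000030180000200e0000081c000008100000101200000810000028140000301c0000201c0000181c0000101c00000806000000060000100a000000020000101400002818000018180000081c0000001c0000280e0000180e0000201a0000181a0000382000000806000008020000000200001812000000120000301a00003814000038200000182000003024000010240000081e0000282200003024)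 73 K4_0 K4_1 = true := by
  decide +kernel

theorem en4 : chkEnd nets 12 4 0 rels (List.range 8) (nat_lit 0xfff) 12 K4_1 = true := by decide +kernel

theorem up {H : Type*} [Group H] {g : ℕ → H} (hg : ∀ r ∈ rels, ev g r = 1) : CardLe (genL g (List.range 8)) 95040 :=
  CardLe.lev ok hg (ded_let ok (by decide) hg hP dd4_0 (defPhase_sound _ ok hg hP df4))
    en4 (up3 hg)

theorem lo0 : CardGe (genL (PP nets) [0,1,2,3]) 8 :=
  CardGe.stepL (L := 4) (b := 4) (n := 8) (ys := []) (prog := [3,1,3,3]) ok (cardGe_one _)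
    (genL_mono _ (by decide)) (by decide +kernel) (by decide +kernel)

theorem lo1 : CardGe (genL (PP nets) [0,1,2,3,4]) 72 :=
  CardGe.stepL (L := 4) (b := 3) (n := 9) (ys := [0,1,2,3]) (prog := [4,3,1,3,4]) ok (lo0)
    (genL_mono _ (by decide)) (by decide +kernel) (by decide +kernel)

theorem lo2 : CardGe (genL (PP nets) [0,1,2,3,4,5]) 720 :=
  CardGe.stepL (L := 4) (b := 2) (n := 10) (ys := [0,1,2,3,4]) (prog := [5,4,1,4,3,5]) ok (lo1)
    (genL_mono _ (by decide)) (by decide +kernel) (by decide +kernel)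

theorem lo3 : CardGe (genL (PP nets) [0,1,2,3,4,5,6]) 7920 :=
  CardGe.stepL (L := 4) (b := 1) (n := 11) (ys := [0,1,2,3,4,5]) (prog := [6,5,1,5,6,4]) ok (lo2)
    (genL_mono _ (by decide)) (by decide +kernel) (by decide +kernel)

theorem lo4 : CardGe (genL (PP nets) (List.range 8)) 95040 :=
  CardGe.stepL (L := 4) (b := 0) (n := 12) (ys := [0,1,2,3,4,5,6]) (prog := [7,6,5,1,5,7,6]) ok (lo3)
    (genL_mono _ (by decide)) (by decide +kernel) (by decide +kernel)

/-- the group. -/
abbrev G : Type := PG nets 8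

theorem lo : CardGe (PG nets 8) 95040 := lo4

theorem card : Nat.card G = 95040 := PG.card (up hP) lo

noncomputable abbrev g : ℕ → G := PG.g nets 8

noncomputable abbrev φ : G →* Perm ℕ := (PG nets 8).subtype

theorem rep : PermRep g nets 12 8 φ := PG.rep ok

theorem hl : chkLet (List.range 8) rels = true := by decide +kernel

theorem hg : ∀ r ∈ rels, ev g r = 1 := PG.hg ok hl hP

theorem lifts : Lifts g 8 rels := PG.lifts ok hl hP (by decide) card fun _ _ _ h => up h

end Cfsg.Agent.Known.M12P
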