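import Cfsg.Agent.Known.Strong
import Cfsg.Agent.Known.NetTab

/-! M22 as a permutation group `G` of degree 22 and order 443520 with a strong presentation (generated
certificate, helper25): `nets`, `rels`, `up`, `card`, `rep`, `hg`, `lifts`. -/

set_option maxRecDepth 100000
set_option exponentiation.threshold 100000

namespace Cfsg.Agent.Known.M22P

open Cfsg.Agent.Spor Equiv

noncomputable def n0 : Net :=
  Net.cons 1 (nat_lit 0x40400) <|
  Net.cons 2 (nat_lit 0x32010) <|
  Net.cons 4 (nat_lit 0x704) <|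
  Net.cons 8 (nat_lit 0x1a) <|
  Net.cons 16 (nat_lit 0x3e) <|
  Net.cons 8 (nat_lit 0xae) <|
  Net.cons 4 (nat_lit 0x20d04) <|
  Net.cons 2 (nat_lit 0x11330) <|
  Net.cons 1 (nat_lit 0x5550) <|
  Net.nil

noncomputable def n1 : Net :=
  Net.cons 1 (nat_lit 0x140000) <|
  Net.cons 2 (nat_lit 0x22330) <|
  Net.cons 4 (nat_lit 0x10e08) <|
  Net.cons 8 (nat_lit 0x1d) <|
  Net.cons 16 (nat_lit 0x3d) <|
  Net.cons 8 (nat_lit 0x65) <|
  Net.cons 4 (nat_lit 0xb08) <|
  Net.cons 2 (nat_lit 0x31020) <|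
  Net.cons 1 (nat_lit 0x115140) <|
  Net.nil

noncomputable def n2 : Net :=
  Net.cons 1 (nat_lit 0x110100) <|
  Net.cons 2 (nat_lit 0x20100) <|
  Net.cons 4 (nat_lit 0x600) <|
  Net.cons 8 (nat_lit 0x15) <|
  Net.cons 16 (nat_lit 0x15) <|
  Net.cons 8 (nat_lit 0xfd) <|
  Net.cons 4 (nat_lit 0x30700) <|
  Net.cons 2 (nat_lit 0x20100) <|
  Net.cons 1 (nat_lit 0x110100) <|
  Net.nil

noncomputable def n3 : Net :=
  Net.cons 1 (nat_lit 0x110100) <|
  Net.cons 2 (nat_lit 0x22) <|
  Net.cons 4 (nat_lit 0x10c00) <|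
  Net.cons 8 (nat_lit 0x9) <|
  Net.cons 16 (nat_lit 0x29) <|
  Net.cons 8 (nat_lit 0xcb) <|
  Net.cons 4 (nat_lit 0x10c00) <|
  Net.cons 2 (nat_lit 0x11022) <|
  Net.cons 1 (nat_lit 0x110100) <|
  Net.nil

noncomputable def n4 : Net :=
  Net.cons 1 (nat_lit 0x11100) <|
  Net.cons 2 (nat_lit 0x32230) <|
  Net.cons 4 (nat_lit 0x500) <|
  Net.cons 8 (nat_lit 0x29) <|
  Net.cons 16 (nat_lit 0x29) <|
  Net.cons 8 (nat_lit 0xbd) <|
  Net.cons 4 (nat_lit 0x30c0c) <|
  Net.cons 2 (nat_lit 0x11220) <|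
  Net.cons 1 (nat_lit 0x150014) <|
  Net.nil

noncomputable def n5 : Net :=
  Net.cons 1 (nat_lit 0x14000) <|
  Net.cons 4 (nat_lit 0x20000) <|
  Net.cons 16 (nat_lit 0x2) <|
  Net.cons 8 (nat_lit 0x84) <|
  Net.cons 4 (nat_lit 0x30200) <|
  Net.cons 2 (nat_lit 0x1010) <|
  Net.cons 1 (nat_lit 0x54000) <|
  Net.nil

noncomputable def n6 : Net :=
  Net.cons 1 (nat_lit 0x51104) <|
  Net.cons 2 (nat_lit 0x22320) <|
  Net.cons 4 (nat_lit 0x208) <|
  Net.cons 8 (nat_lit 0xa) <|
  Net.cons 16 (nat_lit 0xb) <|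
  Net.cons 8 (nat_lit 0xee) <|
  Net.cons 4 (nat_lit 0x208) <|
  Net.cons 2 (nat_lit 0x22320) <|
  Net.cons 1 (nat_lit 0x51114) <|
  Net.nil

noncomputable def nets : List Net := [n0, n1, n2, n3, n4, n5, n6]

theorem ok : netsOk 22 nets = true := by decide +kernel

def rels : List (List ℕ) := [[0,1],[1,0],[0,0,0],[2,2],[3,3],[2,3,2,3],[0,2,0,2,0,2],[0,3,0,3,0,3],[0,2,1,3,0,2,1,3],[4,4],[2,4,2,4,2,4],
  [0,3,4,2,0,3,4,2],[0,4,3,0,4,3,0,4,3],[0,4,1,2,4,2,0,4,1,3],[5,5],[2,5,2,5,2,5,2,5],[0,2,5,2,5,0,2,5,2,5],[0,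
  3,5,2,5,1,4,1,5,0,4],[6,6],[2,4,2,6,2,4,6,2,6],[0,2,5,2,5,6,1,5,0,6],[0,2,6,2,6,3,0,6,2,6],[0,3,4,6,1,2,0,5,6,
  5,2]]

theorem plhP_5 : ∀ p < 5, chkPl nets 22 5 rels p = true :=
  forall_lt_add (a := 0) (b := 5) (fun _ h => absurd h (Nat.not_lt_zero _)) (by decide +kernel)

theorem hP : ∀ r ∈ rels, ev (PP nets) r = 1 := ev_eq_one_of_planes ok (by decide) plhP_5

noncomputable def K0_0 : ℕ := (joinL 22 [(nat_lit 0x0),
  (nat_lit 0x12000),
  (nat_lit 0x0),
  (nat_lit 0x0),
  (nat_lit 0x0),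
  (nat_lit 0x0),
  (nat_lit 0x0)])

theorem df0 : chkDef nets 22 4 rels (ivl 0 154) (nat_lit 0x0) 2 K0_0 = true := by
  decide +kernel

noncomputable def K0_1 : ℕ := (joinL 22 [(nat_lit 0x12010),
  (nat_lit 0x12010),
  (nat_lit 0x0),
  (nat_lit 0x0),
  (nat_lit 0x0),
  (nat_lit 0x0),
  (nat_lit 0x0)])

theorem dd0_0 : chkDed nets 22 4 rels (letS []) (nat_lit 0x8020000100400000002) 3 K0_0 K0_1 = true := by
  decide +kernel

theorem en0 : chkEnd nets 22 5 4 rels [0,1] (nat_lit 0x12010) 3 K0_1 = true := by decide +kernel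

theorem up0 {H : Type*} [Group H] {g : ℕ → H} (hg : ∀ r ∈ rels, ev g r = 1) : CardLe (genL g [0,1]) 3 :=
  CardLe.lev ok hg (ded_let ok (by decide) hg hP dd0_0 (defPhase_sound _ ok hg hP df0))
    en0 (cardLe_nil g)

noncomputable def K1_0 : ℕ := (joinL 22 [(nat_lit 0x0),
  (nat_lit 0x3246c0),
  (nat_lit 0xc9800),
  (nat_lit 0x120),
  (nat_lit 0x0),
  (nat_lit 0x0),
  (nat_lit 0x0)])

theorem df1 : chkDef nets 22 3 rels (ivl 0 154) (nat_lit 0x30000000400000000000000000000000300000000) 6 K1_0 = true := by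
  decide +kernel

noncomputable def K1_1 : ℕ := (joinL 22 [(nat_lit 0x3edfe8),
  (nat_lit 0x3edfe8),
  (nat_lit 0x3edfe8),
  (nat_lit 0x3edfe8),
  (nat_lit 0x0),
  (nat_lit 0x0),
  (nat_lit 0x0)])

theorem dd1_0 : chkDed nets 22 3 rels (letS [0,1]) (nat_lit 0x100000003000008020000080600000808000010040000100a000000020000200c0000280e0000280c000000020000100400000808000008060000180a00000002000038100000280c0000180a) 20 K1_0 K1_1 = true := by
  decide +kernel

theorem en1 : chkEnd nets 22 5 3 rels [0,1,2,3] (nat_lit 0x3edfe8) 16 K1_1 = true := by decide +kernel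

theorem up1 {H : Type*} [Group H] {g : ℕ → H} (hg : ∀ r ∈ rels, ev g r = 1) : CardLe (genL g [0,1,2,3]) 48 :=
  CardLe.lev ok hg (ded_let ok (by decide) hg hP dd1_0 (defPhase_sound _ ok hg hP df1))
    en1 (up0 hg)

noncomputable def K2_0 : ℕ := (joinL 22 [(nat_lit 0x0),
  (nat_lit 0x208520),
  (nat_lit 0x20080),
  (nat_lit 0x1c4a48),
  (nat_lit 0x13010),
  (nat_lit 0x0),
  (nat_lit 0x0)])

theorem df2 : chkDef nets 22 2 rels (ivl 0 154) (nat_lit 0x9000000000000000300000004000000000000000400000009) 7 K2_0 = true := by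
  decide +kernel

noncomputable def K2_1 : ℕ := (joinL 22 [(nat_lit 0x3ffffc),
  (nat_lit 0x3ffffc),
  (nat_lit 0x3ffffc),
  (nat_lit 0x3ffffc),
  (nat_lit 0x3ffffc),
  (nat_lit 0x0),
  (nat_lit 0x0)])

theorem dd2_0 : chkDed nets 22 2 rels (letS [0,1,2,3]) (nat_lit 0x1000000030000000500000007000008080000080200000812000008060000100a0000100400000002000028140000200e000020160000000200001004000000020000200e0000280c0000080600000002000010040000100a000000020000200c0000301000003016000038180000381a0000201a0000081a0000081200002014000030160000301a0000101a0000201400001004000028160000101a) 40 K2_0 K2_1 = true := by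
  decide +kernel

theorem en2 : chkEnd nets 22 5 2 rels [0,1,2,3,4] (nat_lit 0x3ffffc) 20 K2_1 = true := by decide +kernel

theorem up2 {H : Type*} [Group H] {g : ℕ → H} (hg : ∀ r ∈ rels, ev g r = 1) : CardLe (genL g [0,1,2,3,4]) 960 :=
  CardLe.lev ok hg (ded_let ok (by decide) hg hP dd2_0 (defPhase_sound _ ok hg hP df2))
    en2 (up1 hg)

noncomputable def K3_0 : ℕ := (joinL 22 [(nat_lit 0x0),
  (nat_lit 0x11920),
  (nat_lit 0x20408),
  (nat_lit 0x44240),
  (nat_lit 0x0),
  (nat_lit 0x38a094),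
  (nat_lit 0x0)])

theorem df3 : chkDef nets 22 1 rels (ivl 0 154) (nat_lit 0xe0000000000000003000000040000000e0000000000000003) 7 K3_0 = true := by
  decide +kernel

noncomputable def K3_1 : ℕ := (joinL 22 [(nat_lit 0x3ffffe),
  (nat_lit 0x3ffffe),
  (nat_lit 0x3ffffe),
  (nat_lit 0x3ffffe),
  (nat_lit 0x3ffffe),
  (nat_lit 0x3ffffe),
  (nat_lit 0x0)])

theorem dd3_0 : chkDed nets 22 1 rels (letS [0,1,2,3,4]) (nat_lit 0x1000000030000000500000007000000090000081c0000080200000808000008060000100a0000301e00002820000000020000302200000812000028140000082200002016000038180000201a0000081200000002000010040000200c000000020000280e0000402000000808000008060000301e0000200e000038180000402200000002000010040000200c00003010000000020000301600000812000040220000302200000812000020140000180a0000200c00000002000010040000000200002820000000020000280e0000200c000000020000180a00003016000030220000482000001822000008120000301e0000201a00002014000038200000481a000028160000482200003822000010040000201a0000481a0000000200004022)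 73 K3_0 K3_1 = true := by
  decide +kernel

theorem en3 : chkEnd nets 22 5 1 rels [0,1,2,3,4,5] (nat_lit 0x3ffffe) 21 K3_1 = true := by decide +kernel

theorem up3 {H : Type*} [Group H] {g : ℕ → H} (hg : ∀ r ∈ rels, ev g r = 1) : CardLe (genL g [0,1,2,3,4,5]) 20160 :=
  CardLe.lev ok hg (ded_let ok (by decide) hg hP dd3_0 (defPhase_sound _ ok hg hP df3))
    en3 (up2 hg)

noncomputable def K4_0 : ℕ := (joinL 22 [(nat_lit 0x0),
  (nat_lit 0x2045a0),
  (nat_lit 0xc9000),
  (nat_lit 0x0),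
  (nat_lit 0x12244),
  (nat_lit 0x100002),
  (nat_lit 0x20818)])

theorem df4 : chkDef nets 22 0 rels (ivl 0 154) (nat_lit 0x120000000e00000000000000030000000000000009000000120000000e) 8 K4_0 = true := by
  decide +kernel

noncomputable def K4_1 : ℕ := (joinL 22 [(nat_lit 0x3fffff),
  (nat_lit 0x3fffff),
  (nat_lit 0x3fffff),
  (nat_lit 0x3fffff),
  (nat_lit 0x3fffff),
  (nat_lit 0x3fffff),
  (nat_lit 0x3fffff)])

theorem dd4_0 : chkDed nets 22 0 rels (letS [0,1,2,3,4,5]) (nat_lit 0x1000000030000000500000007000000090000000b000008020000081200000824000008060000081c00001004000000020000302600003828000010280000282c0000081c00000824000008060000200c0000000200001004000000020000280c0000002600004020000028140000002a000000020000282a0000082c000008080000180a0000381000003016000040180000201a0000402a000008120000080800002014000030160000401a0000001a0000182a0000402200000806000020140000280e000008080000100a000028140000182600004820000008240000081c000028260000002a0000381e0000301a0000101a0000282a000040220000402c000000020000081c000008080000080200002816000010040000482a00004022000040180000382000002820000030280000282a0000182c00005022)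 80 K4_0 K4_1 = true := by
  decide +kernel

theorem en4 : chkEnd nets 22 5 0 rels (List.range 7) (nat_lit 0x3fffff) 22 K4_1 = true := by decide +kernel

theorem up {H : Type*} [Group H] {g : ℕ → H} (hg : ∀ r ∈ rels, ev g r = 1) : CardLe (genL g (List.range 7)) 443520 :=
  CardLe.lev ok hg (ded_let ok (by decide) hg hP dd4_0 (defPhase_sound _ ok hg hP df4))
    en4 (up3 hg)

theorem lo0 : CardGe (genL (PP nets) [0,1]) 3 :=
  CardGe.stepL (L := 5) (b := 4) (n := 3) (ys := []) (prog := [1,1]) ok (cardGe_one _)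
    (genL_mono _ (by decide)) (by decide +kernel) (by decide +kernel)

theorem lo1 : CardGe (genL (PP nets) [0,1,2,3]) 48 :=
  CardGe.stepL (L := 5) (b := 3) (n := 16) (ys := [0,1]) (prog := [3,2,1,3,2]) ok (lo0)
    (genL_mono _ (by decide)) (by decide +kernel) (by decide +kernel)

theorem lo2 : CardGe (genL (PP nets) [0,1,2,3,4]) 960 :=
  CardGe.stepL (L := 5) (b := 2) (n := 20) (ys := [0,1,2,3]) (prog := [4,3,2,1,4,3,4]) ok (lo1)
    (genL_mono _ (by decide)) (by decide +kernel) (by decide +kernel)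

theorem lo3 : CardGe (genL (PP nets) [0,1,2,3,4,5]) 20160 :=
  CardGe.stepL (L := 5) (b := 1) (n := 21) (ys := [0,1,2,3,4]) (prog := [5,4,1,5,2,1,4]) ok (lo2)
    (genL_mono _ (by decide)) (by decide +kernel) (by decide +kernel)

theorem lo4 : CardGe (genL (PP nets) (List.range 7)) 443520 :=
  CardGe.stepL (L := 5) (b := 0) (n := 22) (ys := [0,1,2,3,4,5]) (prog := [6,5,3,2,4,1,6,5]) ok (lo3)
    (genL_mono _ (by decide)) (by decide +kernel) (by decide +kernel)

/-- the group. -/
abbrev G : Type := PG nets 7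

theorem lo : CardGe (PG nets 7) 443520 := lo4

theorem card : Nat.card G = 443520 := PG.card (up hP) lo

noncomputable abbrev g : ℕ → G := PG.g nets 7

noncomputable abbrev φ : G →* Perm ℕ := (PG nets 7).subtype

theorem rep : PermRep g nets 22 7 φ := PG.rep ok

theorem hl : chkLet (List.range 7) rels = true := by decide +kernel

theorem hg : ∀ r ∈ rels, ev g r = 1 := PG.hg ok hl hP

theorem lifts : Lifts g 7 rels := PG.lifts ok hl hP (by decide) card fun _ _ _ h => up h

end Cfsg.Agent.Known.M22P
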