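import Cfsg.Agent.Known.Strong
import Cfsg.Agent.Known.NetTab

/-! M23 as a permutation group `G` of degree 23 and order 10200960 with a strong presentation (generated
certificate, helper25): `nets`, `rels`, `up`, `card`, `rep`, `hg`, `lifts`. -/

set_option maxRecDepth 100000
set_option exponentiation.threshold 100000

namespace Cfsg.Agent.Known.M23P

open Cfsg.Agent.Spor Equiv

noncomputable def n0 : Net :=
  Net.cons 1 (nat_lit 0x115050) <|
  Net.cons 2 (nat_lit 0x21220) <|
  Net.cons 4 (nat_lit 0x70800) <|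
  Net.cons 8 (nat_lit 0x5b) <|
  Net.cons 16 (nat_lit 0x5b) <|
  Net.cons 8 (nat_lit 0x2b) <|
  Net.cons 4 (nat_lit 0x10c00) <|
  Net.cons 2 (nat_lit 0x33220) <|
  Net.cons 1 (nat_lit 0x100110) <|
  Net.nil

noncomputable def n1 : Net :=
  Net.cons 1 (nat_lit 0x100110) <|
  Net.cons 2 (nat_lit 0x33220) <|
  Net.cons 4 (nat_lit 0xc00) <|
  Net.cons 8 (nat_lit 0xb) <|
  Net.cons 16 (nat_lit 0x5b) <|
  Net.cons 8 (nat_lit 0x7b) <|
  Net.cons 4 (nat_lit 0x70900) <|
  Net.cons 2 (nat_lit 0x21220) <|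
  Net.cons 1 (nat_lit 0x115050) <|
  Net.nil

noncomputable def n2 : Net :=
  Net.cons 1 (nat_lit 0x54500) <|
  Net.cons 2 (nat_lit 0x102100) <|
  Net.cons 4 (nat_lit 0x10c00) <|
  Net.cons 8 (nat_lit 0xf) <|
  Net.cons 16 (nat_lit 0xf) <|
  Net.cons 8 (nat_lit 0xdf) <|
  Net.cons 4 (nat_lit 0x10c00) <|
  Net.cons 2 (nat_lit 0x102100) <|
  Net.cons 1 (nat_lit 0x154500) <|
  Net.nil

noncomputable def n3 : Net :=
  Net.cons 1 (nat_lit 0x114000) <|
  Net.cons 2 (nat_lit 0x10020) <|
  Net.cons 4 (nat_lit 0x50000) <|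
  Net.cons 8 (nat_lit 0xf) <|
  Net.cons 16 (nat_lit 0x3f) <|
  Net.cons 8 (nat_lit 0x4f) <|
  Net.cons 4 (nat_lit 0x50000) <|
  Net.cons 2 (nat_lit 0x130320) <|
  Net.cons 1 (nat_lit 0x115000) <|
  Net.nil

noncomputable def n4 : Net :=
  Net.cons 1 (nat_lit 0x144) <|
  Net.cons 2 (nat_lit 0x32030) <|
  Net.cons 4 (nat_lit 0x40408) <|
  Net.cons 8 (nat_lit 0x6) <|
  Net.cons 16 (nat_lit 0x2e) <|
  Net.cons 8 (nat_lit 0x7e) <|
  Net.cons 4 (nat_lit 0x5090c) <|
  Net.cons 2 (nat_lit 0x23110) <|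
  Net.cons 1 (nat_lit 0x110044) <|
  Net.nil

noncomputable def n5 : Net :=
  Net.cons 1 (nat_lit 0x110044) <|
  Net.cons 2 (nat_lit 0x23110) <|
  Net.cons 4 (nat_lit 0xd08) <|
  Net.cons 8 (nat_lit 0x6a) <|
  Net.cons 16 (nat_lit 0x6a) <|
  Net.cons 8 (nat_lit 0x56) <|
  Net.cons 4 (nat_lit 0x1000c) <|
  Net.cons 2 (nat_lit 0x32030) <|
  Net.cons 1 (nat_lit 0x144) <|
  Net.nil

noncomputable def n6 : Net :=
  Net.cons 1 (nat_lit 0x114400) <|
  Net.cons 2 (nat_lit 0x10010) <|
  Net.cons 4 (nat_lit 0x10a00) <|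
  Net.cons 8 (nat_lit 0xe) <|
  Net.cons 16 (nat_lit 0x3e) <|
  Net.cons 8 (nat_lit 0x8e) <|
  Net.cons 4 (nat_lit 0x10a04) <|
  Net.cons 2 (nat_lit 0x10010) <|
  Net.cons 1 (nat_lit 0x114500) <|
  Net.nil

noncomputable def n7 : Net :=
  Net.cons 1 (nat_lit 0x50004) <|
  Net.cons 2 (nat_lit 0x111000) <|
  Net.cons 4 (nat_lit 0x70000) <|
  Net.cons 8 (nat_lit 0x39) <|
  Net.cons 16 (nat_lit 0x79) <|
  Net.cons 8 (nat_lit 0x69) <|
  Net.cons 4 (nat_lit 0x70a00) <|
  Net.cons 2 (nat_lit 0x122212) <|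
  Net.cons 1 (nat_lit 0x50004) <|
  Net.nil

noncomputable def n8 : Net :=
  Net.cons 1 (nat_lit 0x100) <|
  Net.cons 2 (nat_lit 0x102000) <|
  Net.cons 4 (nat_lit 0x10000) <|
  Net.cons 8 (nat_lit 0x5) <|
  Net.cons 16 (nat_lit 0x5) <|
  Net.cons 8 (nat_lit 0x2d) <|
  Net.cons 4 (nat_lit 0x10004) <|
  Net.cons 2 (nat_lit 0x102000) <|
  Net.cons 1 (nat_lit 0x11101) <|
  Net.nil

noncomputable def nets : List Net := [n0, n1, n2, n3, n4, n5, n6, n7, n8]

theorem ok : netsOk 23 nets = true := by decide +kernel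

def rels : List (List ℕ) := [[0,1],[1,0],[0,0,0],[2,2],[3,3],[2,3,2,3],[0,2,0,2,0,2],[0,3,0,3,0,3],[0,2,1,3,0,2,1,3],[4,5],[5,4],[0,4,0,5,
  2],[0,2,5,5,2,4],[3,4,3,4,3,4],[0,4,3,0,4,3,0,4,3],[6,6],[2,6,2,6,2,6],[0,4,2,6,2,5,6],[3,4,6,5,3,4,6,5],[7,
  7],[3,7,3,7],[0,5,7,4,2,7],[2,6,2,7,6,2,7,6,7],[8,8],[3,5,6,5,6,8,4,8],[4,8,5,6,4,8,5,6],[0,8,5,5,2,6,8,3],[0,
  3,0,8,7,6,8,6,7,8,1,3,6,7,2,6,5,3,4]]

theorem plhP_5 : ∀ p < 5, chkPl nets 23 5 rels p = true :=
  forall_lt_add (a := 0) (b := 5) (fun _ h => absurd h (Nat.not_lt_zero _)) (by decide +kernel)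

theorem hP : ∀ r ∈ rels, ev (PP nets) r = 1 := ev_eq_one_of_planes ok (by decide) plhP_5

noncomputable def K0_0 : ℕ := (joinL 23 [(nat_lit 0x0),
  (nat_lit 0x24000),
  (nat_lit 0x0),
  (nat_lit 0x0),
  (nat_lit 0x0),
  (nat_lit 0x0),
  (nat_lit 0x0),
  (nat_lit 0x0),
  (nat_lit 0x0)])

theorem df0 : chkDef nets 23 5 rels (ivl 0 207) (nat_lit 0x0) 2 K0_0 = true := by
  decide +kernel

noncomputable def K0_1 : ℕ := (joinL 23 [(nat_lit 0x24020),
  (nat_lit 0x24020),
  (nat_lit 0x0),
  (nat_lit 0x0),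
  (nat_lit 0x0),
  (nat_lit 0x0),
  (nat_lit 0x0),
  (nat_lit 0x0),
  (nat_lit 0x0)])

theorem dd0_0 : chkDed nets 23 5 rels (letS []) (nat_lit 0x8020000100400000002) 3 K0_0 K0_1 = true := by
  decide +kernel

theorem en0 : chkEnd nets 23 5 5 rels [0,1] (nat_lit 0x24020) 3 K0_1 = true := by decide +kernel

theorem up0 {H : Type*} [Group H] {g : ℕ → H} (hg : ∀ r ∈ rels, ev g r = 1) : CardLe (genL g [0,1]) 3 :=
  CardLe.lev ok hg (ded_let ok (by decide) hg hP dd0_0 (defPhase_sound _ ok hg hP df0))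
    en0 (cardLe_nil g)

noncomputable def K1_0 : ℕ := (joinL 23 [(nat_lit 0x0),
  (nat_lit 0x7184c0),
  (nat_lit 0x81b00),
  (nat_lit 0x42000),
  (nat_lit 0x0),
  (nat_lit 0x0),
  (nat_lit 0x0),
  (nat_lit 0x0),
  (nat_lit 0x0)])

theorem df1 : chkDef nets 23 4 rels (ivl 0 207) (nat_lit 0x30000000400000000000000000000000300000000) 6 K1_0 = true := by
  decide +kernel

noncomputable def K1_1 : ℕ := (joinL 23 [(nat_lit 0x7dbfd0),
  (nat_lit 0x7dbfd0),
  (nat_lit 0x7dbfd0),
  (nat_lit 0x7dbfd0),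
  (nat_lit 0x0),
  (nat_lit 0x0),
  (nat_lit 0x0),
  (nat_lit 0x0),
  (nat_lit 0x0)])

theorem dd1_0 : chkDed nets 23 4 rels (letS [0,1]) (nat_lit 0x100000003000008020000080600000808000010040000100a000000020000200c0000280e0000280c000000020000100400000808000008060000180a00000002000038100000280c0000180a) 20 K1_0 K1_1 = true := by
  decide +kernel

theorem en1 : chkEnd nets 23 5 4 rels [0,1,2,3] (nat_lit 0x7dbfd0) 16 K1_1 = true := by decide +kernel

theorem up1 {H : Type*} [Group H] {g : ℕ → H} (hg : ∀ r ∈ rels, ev g r = 1) : CardLe (genL g [0,1,2,3]) 48 :=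
  CardLe.lev ok hg (ded_let ok (by decide) hg hP dd1_0 (defPhase_sound _ ok hg hP df1))
    en1 (up0 hg)

noncomputable def K2_0 : ℕ := (joinL 23 [(nat_lit 0x0),
  (nat_lit 0x4982c0),
  (nat_lit 0x1000),
  (nat_lit 0x42000),
  (nat_lit 0x0),
  (nat_lit 0x324d30),
  (nat_lit 0x0),
  (nat_lit 0x0),
  (nat_lit 0x0)])

theorem df2 : chkDef nets 23 3 rels (ivl 0 207) (nat_lit 0x9000000030000000400000000000000090000000000000009) 7 K2_0 = true := by
  decide +kernel

noncomputable def K2_1 : ℕ := (joinL 23 [(nat_lit 0x7ffff8),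
  (nat_lit 0x7ffff8),
  (nat_lit 0x7ffff8),
  (nat_lit 0x7ffff8),
  (nat_lit 0x7ffff8),
  (nat_lit 0x7ffff8),
  (nat_lit 0x0),
  (nat_lit 0x0),
  (nat_lit 0x0)])

theorem dd2_0 : chkDed nets 23 3 rels (letS [0,1,2,3]) (nat_lit 0x10000000300000005000000070000081400000802000008080000100400000806000000020000100a000010160000000200001004000000020000280e000010180000081400000808000010160000000200001004000018160000280c00000814000008060000000200001818000008140000201a0000401c00000808000028100000100a0000280e00000816000010180000280c000010160000281a0000001400000808000000020000081400000818000010180000201a000008140000201a) 49 K2_0 K2_1 = true := by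
  decide +kernel

theorem en2 : chkEnd nets 23 5 3 rels [0,1,2,3,4,5] (nat_lit 0x7ffff8) 20 K2_1 = true := by decide +kernel

theorem up2 {H : Type*} [Group H] {g : ℕ → H} (hg : ∀ r ∈ rels, ev g r = 1) : CardLe (genL g [0,1,2,3,4,5]) 960 :=
  CardLe.lev ok hg (ded_let ok (by decide) hg hP dd2_0 (defPhase_sound _ ok hg hP df2))
    en2 (up1 hg)

noncomputable def K3_0 : ℕ := (joinL 23 [(nat_lit 0x0),
  (nat_lit 0x4982c0),
  (nat_lit 0x1000),
  (nat_lit 0x42000),
  (nat_lit 0x0),
  (nat_lit 0x324d28),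
  (nat_lit 0x10),
  (nat_lit 0x0),
  (nat_lit 0x0)])

theorem df3 : chkDef nets 23 2 rels (ivl 0 207) (nat_lit 0xf000000030000000400000000000000090000000000000009) 7 K3_0 = true := by
  decide +kernel

noncomputable def K3_1 : ℕ := (joinL 23 [(nat_lit 0x7ffffc),
  (nat_lit 0x7ffffc),
  (nat_lit 0x7ffffc),
  (nat_lit 0x7ffffc),
  (nat_lit 0x7ffffc),
  (nat_lit 0x7ffffc),
  (nat_lit 0x7ffffc),
  (nat_lit 0x0),
  (nat_lit 0x0)])

theorem dd3_0 : chkDed nets 23 2 rels (letS [0,1,2,3,4,5]) (nat_lit 0x1000000030000000500000007000000090000000b000008140000080200000808000010040000081e00000806000000020000100a00001016000028200000282200000002000010040000081400000002000010160000002200003024000000020000100400000002000018160000280e0000280c0000081400000808000008060000101600001018000018220000081e00000814000000020000081800001822000020240000201a0000401c00000808000028100000100a0000280e00000816000010180000280c00003024000010160000281a0000001400000808000000020000081400000818000010180000201a00003022000030240000081e00000814000028200000201a)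 67 K3_0 K3_1 = true := by
  decide +kernel

theorem en3 : chkEnd nets 23 5 2 rels [0,1,2,3,4,5,6] (nat_lit 0x7ffffc) 21 K3_1 = true := by decide +kernel

theorem up3 {H : Type*} [Group H] {g : ℕ → H} (hg : ∀ r ∈ rels, ev g r = 1) : CardLe (genL g [0,1,2,3,4,5,6]) 20160 :=
  CardLe.lev ok hg (ded_let ok (by decide) hg hP dd3_0 (defPhase_sound _ ok hg hP df3))
    en3 (up2 hg)

noncomputable def K4_0 : ℕ := (joinL 23 [(nat_lit 0x0),
  (nat_lit 0x4982c0),
  (nat_lit 0x1000),
  (nat_lit 0x42000),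
  (nat_lit 0x0),
  (nat_lit 0x324d28),
  (nat_lit 0x10),
  (nat_lit 0x4),
  (nat_lit 0x0)])

theorem df4 : chkDef nets 23 1 rels (ivl 0 207) (nat_lit 0x130000000f000000030000000400000000000000090000000000000009) 8 K4_0 = true := by
  decide +kernel

noncomputable def K4_1 : ℕ := (joinL 23 [(nat_lit 0x7ffffe),
  (nat_lit 0x7ffffe),
  (nat_lit 0x7ffffe),
  (nat_lit 0x7ffffe),
  (nat_lit 0x7ffffe),
  (nat_lit 0x7ffffe),
  (nat_lit 0x7ffffe),
  (nat_lit 0x7ffffe),
  (nat_lit 0x0)])

theorem dd4_0 : chkDed nets 23 1 rels (letS [0,1,2,3,4,5,6]) (nat_lit 0x1000000030000000500000007000000090000000b0000000d00000814000008020000080800001004000008260000081e00000806000000020000100a00001028000010160000302c00000002000010040000082600001828000000020000102c000028200000182a000000140000002a0000000200002822000008140000101600000002000010040000082a00000022000030240000000200000814000008180000280e00000808000010160000282a00001018000018220000081e000008140000000200000818000018220000282a000020240000402c0000201a0000401c0000080800002810000018280000100a0000280e00000816000010180000280c00003024000010160000281a0000282a00000014000008080000000200000814000008260000282a000008180000102a000010180000201a00003022000030240000081e0000082600000814000028200000282a0000201a)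 87 K4_0 K4_1 = true := by
  decide +kernel

theorem en4 : chkEnd nets 23 5 1 rels [0,1,2,3,4,5,6,7] (nat_lit 0x7ffffe) 22 K4_1 = true := by decide +kernel

theorem up4 {H : Type*} [Group H] {g : ℕ → H} (hg : ∀ r ∈ rels, ev g r = 1) : CardLe (genL g [0,1,2,3,4,5,6,7]) 443520 :=
  CardLe.lev ok hg (ded_let ok (by decide) hg hP dd4_0 (defPhase_sound _ ok hg hP df4))
    en4 (up3 hg)

noncomputable def K5_0 : ℕ := (joinL 23 [(nat_lit 0x0),
  (nat_lit 0x4982c0),
  (nat_lit 0x1000),
  (nat_lit 0x42000),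
  (nat_lit 0x0),
  (nat_lit 0x324d28),
  (nat_lit 0x10),
  (nat_lit 0x4),
  (nat_lit 0x2)])

theorem df5 : chkDef nets 23 0 rels (ivl 0 207) (nat_lit 0x17000000130000000f000000030000000400000000000000090000000000000009) 9 K5_0 = true := by
  decide +kernel

noncomputable def K5_1 : ℕ := (joinL 23 [(nat_lit 0x7fffff),
  (nat_lit 0x7fffff),
  (nat_lit 0x7fffff),
  (nat_lit 0x7fffff),
  (nat_lit 0x7fffff),
  (nat_lit 0x7fffff),
  (nat_lit 0x7fffff),
  (nat_lit 0x7fffff),
  (nat_lit 0x7fffff)])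

theorem dd5_0 : chkDed nets 23 0 rels (letS [0,1,2,3,4,5,6,7]) (nat_lit 0x1000000030000000500000007000000090000000b0000000d0000000f000008140000080200000808000010040000082e000008260000081e00000806000000020000100a0000101600003030000000020000100400000014000000020000383200003036000000300000203400001028000000180000302c0000082600000002000018280000102c000048360000082e000028200000182a000000140000002a0000000200002822000008140000101600000002000010040000082a000000220000383000003024000000020000082e00000814000008180000280e000008340000082e00000808000010160000282a00001018000018220000081e000008140000000200000818000018220000282a000020240000402c0000201a000038300000401c000008080000082e00002810000018280000100a0000280e00000816000010180000280c00003024000010160000281a0000282a000038300000303000000014000008080000000200000826000008140000282a000008180000102a00001018000038320000201a0000302200002032000020300000302400002834000008260000081e000008140000282a00002830000030340000201a00003036) 113 K5_0 K5_1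 = true := by
  decide +kernel

theorem en5 : chkEnd nets 23 5 0 rels (List.range 9) (nat_lit 0x7fffff) 23 K5_1 = true := by decide +kernel

theorem up {H : Type*} [Group H] {g : ℕ → H} (hg : ∀ r ∈ rels, ev g r = 1) : CardLe (genL g (List.range 9)) 10200960 :=
  CardLe.lev ok hg (ded_let ok (by decide) hg hP dd5_0 (defPhase_sound _ ok hg hP df5))
    en5 (up4 hg)

theorem lo0 : CardGe (genL (PP nets) [0,1]) 3 :=
  CardGe.stepL (L := 5) (b := 5) (n := 3) (ys := []) (prog := [1,1]) ok (cardGe_one _)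
    (genL_mono _ (by decide)) (by decide +kernel) (by decide +kernel)

theorem lo1 : CardGe (genL (PP nets) [0,1,2,3]) 48 :=
  CardGe.stepL (L := 5) (b := 4) (n := 16) (ys := [0,1]) (prog := [3,2,1,3,2]) ok (lo0)
    (genL_mono _ (by decide)) (by decide +kernel) (by decide +kernel)

theorem lo2 : CardGe (genL (PP nets) [0,1,2,3,4,5]) 960 :=
  CardGe.stepL (L := 5) (b := 3) (n := 20) (ys := [0,1,2,3]) (prog := [5,5,3,5,5,2,5,5]) ok (lo1)
    (genL_mono _ (by decide)) (by decide +kernel) (by decide +kernel)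

theorem lo3 : CardGe (genL (PP nets) [0,1,2,3,4,5,6]) 20160 :=
  CardGe.stepL (L := 5) (b := 2) (n := 21) (ys := [0,1,2,3,4,5]) (prog := [6,5,5,3,2,1,6,5]) ok (lo2)
    (genL_mono _ (by decide)) (by decide +kernel) (by decide +kernel)

theorem lo4 : CardGe (genL (PP nets) [0,1,2,3,4,5,6,7]) 443520 :=
  CardGe.stepL (L := 5) (b := 1) (n := 22) (ys := [0,1,2,3,4,5,6]) (prog := [7,6,7,3,5,1,5,6]) ok (lo3)
    (genL_mono _ (by decide)) (by decide +kernel) (by decide +kernel)

theorem lo5 : CardGe (genL (PP nets) (List.range 9)) 10200960 :=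
  CardGe.stepL (L := 5) (b := 0) (n := 23) (ys := [0,1,2,3,4,5,6,7]) (prog := [8,7,8,6,7,5,1,5]) ok (lo4)
    (genL_mono _ (by decide)) (by decide +kernel) (by decide +kernel)

/-- the group. -/
abbrev G : Type := PG nets 9

theorem lo : CardGe (PG nets 9) 10200960 := lo5

theorem card : Nat.card G = 10200960 := PG.card (up hP) lo

noncomputable abbrev g : ℕ → G := PG.g nets 9

noncomputable abbrev φ : G →* Perm ℕ := (PG nets 9).subtype

theorem rep : PermRep g nets 23 9 φ := PG.rep ok

theorem hl : chkLet (List.range 9) rels = true := by decide +kernel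

theorem hg : ∀ r ∈ rels, ev g r = 1 := PG.hg ok hl hP

theorem lifts : Lifts g 9 rels := PG.lifts ok hl hP (by decide) card fun _ _ _ h => up h

end Cfsg.Agent.Known.M23P
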