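import Cfsg.Agent.Known.Strong
import Cfsg.Agent.Known.NetTab

/-! M24 as a permutation group `G` of degree 24 and order 244823040 with a strong presentation (generated
certificate, helper25): `nets`, `rels`, `up`, `card`, `rep`, `hg`, `lifts`. -/

set_option maxRecDepth 100000
set_option exponentiation.threshold 100000

namespace Cfsg.Agent.Known.M24P

open Cfsg.Agent.Spor Equiv

noncomputable def n0 : Net :=
  Net.cons 1 (nat_lit 0x141400) <|
  Net.cons 2 (nat_lit 0x333300) <|
  Net.cons 4 (nat_lit 0x20000) <|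
  Net.cons 8 (nat_lit 0x38) <|
  Net.cons 16 (nat_lit 0x78) <|
  Net.cons 8 (nat_lit 0xb8) <|
  Net.cons 4 (nat_lit 0x40e00) <|
  Net.cons 2 (nat_lit 0x111000) <|
  Net.cons 1 (nat_lit 0x505400) <|
  Net.nil

noncomputable def n1 : Net :=
  Net.cons 1 (nat_lit 0x505400) <|
  Net.cons 2 (nat_lit 0x111000) <|
  Net.cons 4 (nat_lit 0x60800) <|
  Net.cons 8 (nat_lit 0x1a) <|
  Net.cons 16 (nat_lit 0x5a) <|
  Net.cons 8 (nat_lit 0x9a) <|
  Net.cons 4 (nat_lit 0x600) <|
  Net.cons 2 (nat_lit 0x333300) <|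
  Net.cons 1 (nat_lit 0x141400) <|
  Net.nil

noncomputable def n2 : Net :=
  Net.cons 1 (nat_lit 0x40140) <|
  Net.cons 2 (nat_lit 0x213000) <|
  Net.cons 4 (nat_lit 0x80200) <|
  Net.cons 8 (nat_lit 0x91) <|
  Net.cons 16 (nat_lit 0xb1) <|
  Net.cons 8 (nat_lit 0x31) <|
  Net.cons 4 (nat_lit 0x60800) <|
  Net.cons 2 (nat_lit 0x31220) <|
  Net.cons 1 (nat_lit 0x40140) <|
  Net.nil

noncomputable def n3 : Net :=
  Net.cons 1 (nat_lit 0x14400) <|
  Net.cons 2 (nat_lit 0x220200) <|
  Net.cons 8 (nat_lit 0x88) <|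
  Net.cons 16 (nat_lit 0x88) <|
  Net.cons 8 (nat_lit 0xe8) <|
  Net.cons 4 (nat_lit 0x70000) <|
  Net.cons 2 (nat_lit 0x220300) <|
  Net.cons 1 (nat_lit 0x454400) <|
  Net.nil

noncomputable def n4 : Net :=
  Net.cons 1 (nat_lit 0x41400) <|
  Net.cons 2 (nat_lit 0x132000) <|
  Net.cons 8 (nat_lit 0x86) <|
  Net.cons 16 (nat_lit 0xf6) <|
  Net.cons 8 (nat_lit 0xb6) <|
  Net.cons 4 (nat_lit 0x30a00) <|
  Net.cons 2 (nat_lit 0x120330) <|
  Net.cons 1 (nat_lit 0x115540) <|
  Net.nil

noncomputable def n5 : Net :=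
  Net.cons 1 (nat_lit 0x540400) <|
  Net.cons 2 (nat_lit 0x332300) <|
  Net.cons 4 (nat_lit 0x90500) <|
  Net.cons 8 (nat_lit 0xcb) <|
  Net.cons 16 (nat_lit 0xdb) <|
  Net.cons 8 (nat_lit 0xb) <|
  Net.cons 4 (nat_lit 0x20100) <|
  Net.cons 2 (nat_lit 0x32220) <|
  Net.cons 1 (nat_lit 0x414010) <|
  Net.nil

noncomputable def n6 : Net :=
  Net.cons 1 (nat_lit 0x505100) <|
  Net.cons 2 (nat_lit 0x320100) <|
  Net.cons 4 (nat_lit 0x20400) <|
  Net.cons 8 (nat_lit 0x24) <|
  Net.cons 16 (nat_lit 0x24) <|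
  Net.cons 8 (nat_lit 0xfc) <|
  Net.cons 4 (nat_lit 0xb0400) <|
  Net.cons 2 (nat_lit 0x320100) <|
  Net.cons 1 (nat_lit 0x505100) <|
  Net.nil

noncomputable def n7 : Net :=
  Net.cons 1 (nat_lit 0x10000) <|
  Net.cons 2 (nat_lit 0x3000) <|
  Net.cons 4 (nat_lit 0x70000) <|
  Net.cons 8 (nat_lit 0x12) <|
  Net.cons 16 (nat_lit 0x52) <|
  Net.cons 8 (nat_lit 0x12) <|
  Net.cons 4 (nat_lit 0x70c00) <|
  Net.cons 2 (nat_lit 0x123000) <|
  Net.cons 1 (nat_lit 0x10004) <|
  Net.nil

noncomputable def n8 : Net :=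
  Net.cons 1 (nat_lit 0x514440) <|
  Net.cons 2 (nat_lit 0x212020) <|
  Net.cons 4 (nat_lit 0xb0a00) <|
  Net.cons 8 (nat_lit 0xa1) <|
  Net.cons 16 (nat_lit 0xb3) <|
  Net.cons 8 (nat_lit 0x8b) <|
  Net.cons 4 (nat_lit 0x90806) <|
  Net.cons 2 (nat_lit 0x212020) <|
  Net.cons 1 (nat_lit 0x514440) <|
  Net.nil

noncomputable def n9 : Net :=
  Net.cons 1 (nat_lit 0x4400) <|
  Net.cons 2 (nat_lit 0x302100) <|
  Net.cons 4 (nat_lit 0x70000) <|
  Net.cons 8 (nat_lit 0x43) <|
  Net.cons 16 (nat_lit 0xcb) <|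
  Net.cons 8 (nat_lit 0x47) <|
  Net.cons 4 (nat_lit 0xf0809) <|
  Net.cons 2 (nat_lit 0x302100) <|
  Net.cons 1 (nat_lit 0x4400) <|
  Net.nil

noncomputable def nets : List Net := [n0, n1, n2, n3, n4, n5, n6, n7, n8, n9]

theorem ok : netsOk 24 nets = true := by decide +kernel

def rels : List (List ℕ) := [[0,1],[1,0],[0,0,0],[2,2],[3,3],[2,3,2,3],[0,2,0,2,0,2],[0,3,0,3,0,3],[0,2,1,3,0,2,1,3],[4,5],[5,4],[3,4,3,
  4],[4,4,4,4,4],[0,4,0,4,0,4],[0,2,4,0,2,4],[0,5,2,4,4,1,2,5],[6,6],[2,6,5,6,4,6],[0,2,6,0,3,6,5,0,5],[0,4,6,0,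
  4,6],[7,7],[0,7,0,7],[0,7,3,0,7,3],[0,7,3,4,7,2,4],[0,6,1,7,6,1,7,6,7],[8,8],[0,5,7,8,3,5,8,3,4],[0,2,8,3,4,8,
  5,3,8,2,1,6],[0,3,2,0,8,3,6,0,8,4,1,6,7,5,6,5],[0,2,3,8,0,5,6,7,6,1,4,2,1,3,8,3],[9,9],[0,2,9,7,9,3,5,6,5],[0,
  7,9,8,6,8,6,8,9],[0,2,1,3,9,1,3,7,9],[0,2,6,4,9,7,9,5,6,4],[0,9,4,4,9,5,5,9,7,6,7,2,4,4,3],[0,6,5,9,4,4,8,3,8,
  5,5,9,4,7,8,7,6,7]]

theorem plhP_5 : ∀ p < 5, chkPl nets 24 5 rels p = true :=
  forall_lt_add (a := 0) (b := 5) (fun _ h => absurd h (Nat.not_lt_zero _)) (by decide +kernel)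

theorem hP : ∀ r ∈ rels, ev (PP nets) r = 1 := ev_eq_one_of_planes ok (by decide) plhP_5

noncomputable def K0_0 : ℕ := (joinL 24 [(nat_lit 0x0),
  (nat_lit 0x210000),
  (nat_lit 0x0),
  (nat_lit 0x0),
  (nat_lit 0x0),
  (nat_lit 0x0),
  (nat_lit 0x0),
  (nat_lit 0x0),
  (nat_lit 0x0),
  (nat_lit 0x0)])

theorem df0 : chkDef nets 24 6 rels (ivl 0 240) (nat_lit 0x0) 2 K0_0 = true := by
  decide +kernel

noncomputable def K0_1 : ℕ := (joinL 24 [(nat_lit 0x210040),
  (nat_lit 0x210040),
  (nat_lit 0x0),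
  (nat_lit 0x0),
  (nat_lit 0x0),
  (nat_lit 0x0),
  (nat_lit 0x0),
  (nat_lit 0x0),
  (nat_lit 0x0),
  (nat_lit 0x0)])

theorem dd0_0 : chkDed nets 24 6 rels (letS []) (nat_lit 0x8020000100400000002) 3 K0_0 K0_1 = true := by
  decide +kernel

theorem en0 : chkEnd nets 24 5 6 rels [0,1] (nat_lit 0x210040) 3 K0_1 = true := by decide +kernel

theorem up0 {H : Type*} [Group H] {g : ℕ → H} (hg : ∀ r ∈ rels, ev g r = 1) : CardLe (genL g [0,1]) 3 :=
  CardLe.lev ok hg (ded_let ok (by decide) hg hP dd0_0 (defPhase_sound _ ok hg hP df0))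
    en0 (cardLe_nil g)

noncomputable def K1_0 : ℕ := (joinL 24 [(nat_lit 0x0),
  (nat_lit 0x20a00),
  (nat_lit 0xecc040),
  (nat_lit 0x112100),
  (nat_lit 0x0),
  (nat_lit 0x0),
  (nat_lit 0x0),
  (nat_lit 0x0),
  (nat_lit 0x0),
  (nat_lit 0x0)])

theorem df1 : chkDef nets 24 5 rels (ivl 0 240) (nat_lit 0x400000003000000000000000400000003) 5 K1_0 = true := by
  decide +kernel

noncomputable def K1_1 : ℕ := (joinL 24 [(nat_lit 0xffeb60),
  (nat_lit 0xffeb60),
  (nat_lit 0xffeb60),
  (nat_lit 0xffeb60),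
  (nat_lit 0x0),
  (nat_lit 0x0),
  (nat_lit 0x0),
  (nat_lit 0x0),
  (nat_lit 0x0),
  (nat_lit 0x0)])

theorem dd1_0 : chkDed nets 24 5 rels (letS [0,1]) (nat_lit 0x1000000030000080600000808000008020000180a0000200e0000200c0000000200001004000000020000301000002010000010040000200e00000002) 16 K1_0 K1_1 = true := by
  decide +kernel

theorem en1 : chkEnd nets 24 5 5 rels [0,1,2,3] (nat_lit 0xffeb60) 16 K1_1 = true := by decide +kernel

theorem up1 {H : Type*} [Group H] {g : ℕ → H} (hg : ∀ r ∈ rels, ev g r = 1) : CardLe (genL g [0,1,2,3]) 48 :=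
  CardLe.lev ok hg (ded_let ok (by decide) hg hP dd1_0 (defPhase_sound _ ok hg hP df1))
    en1 (up0 hg)

noncomputable def K2_0 : ℕ := (joinL 24 [(nat_lit 0x0),
  (nat_lit 0x404000),
  (nat_lit 0x840900),
  (nat_lit 0x380260),
  (nat_lit 0x0),
  (nat_lit 0x3b480),
  (nat_lit 0x0),
  (nat_lit 0x0),
  (nat_lit 0x0),
  (nat_lit 0x0)])

theorem df2 : chkDef nets 24 4 rels (ivl 0 240) (nat_lit 0x9000000040000000000000009000000040000000300000009) 7 K2_0 = true := by
  decide +kernel

noncomputable def K2_1 : ℕ := (joinL 24 [(nat_lit 0xfffff0),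
  (nat_lit 0xfffff0),
  (nat_lit 0xfffff0),
  (nat_lit 0xfffff0),
  (nat_lit 0xfffff0),
  (nat_lit 0xfffff0),
  (nat_lit 0x0),
  (nat_lit 0x0),
  (nat_lit 0x0),
  (nat_lit 0x0)])

theorem dd2_0 : chkDed nets 24 4 rels (letS [0,1,2,3]) (nat_lit 0x100000003000000050000000700000814000008080000080600000802000018160000180a00000014000020180000201a0000201c000000140000080600000002000010040000100a0000200e000000020000281e0000201e0000001400000802000020180000001400001004000010160000200e0000200c000000020000100400003010000020100000001e00000002000010040000200e0000281c0000201c0000280c0000000200000014000008060000281a0000201e0000381e0000101e0000081e0000001400000814000010160000201a0000001e000020180000281e0000101e0000000200000014000010160000201c) 62 K2_0 K2_1 = true := by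
  decide +kernel

theorem en2 : chkEnd nets 24 5 4 rels [0,1,2,3,4,5] (nat_lit 0xfffff0) 20 K2_1 = true := by decide +kernel

theorem up2 {H : Type*} [Group H] {g : ℕ → H} (hg : ∀ r ∈ rels, ev g r = 1) : CardLe (genL g [0,1,2,3,4,5]) 960 :=
  CardLe.lev ok hg (ded_let ok (by decide) hg hP dd2_0 (defPhase_sound _ ok hg hP df2))
    en2 (up1 hg)

noncomputable def K3_0 : ℕ := (joinL 24 [(nat_lit 0x0),
  (nat_lit 0x112000),
  (nat_lit 0xcac060),
  (nat_lit 0x100),
  (nat_lit 0x0),
  (nat_lit 0x241690),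
  (nat_lit 0x800),
  (nat_lit 0x0),
  (nat_lit 0x0),
  (nat_lit 0x0)])

theorem df3 : chkDef nets 24 3 rels (ivl 0 240) (nat_lit 0x10000000040000000300000000000000090000000300000009) 7 K3_0 = true := by
  decide +kernel

noncomputable def K3_1 : ℕ := (joinL 24 [(nat_lit 0xfffff8),
  (nat_lit 0xfffff8),
  (nat_lit 0xfffff8),
  (nat_lit 0xfffff8),
  (nat_lit 0xfffff8),
  (nat_lit 0xfffff8),
  (nat_lit 0xfffff8),
  (nat_lit 0x0),
  (nat_lit 0x0),
  (nat_lit 0x0)])

theorem dd3_0 : chkDed nets 24 3 rels (letS [0,1,2,3,4,5]) (nat_lit 0x1000000030000000500000007000000090000000b00000806000008140000080200000808000008200000180a0000282200000822000018240000000200001004000020260000200c000000020000001400001004000028260000181c000018220000402400000002000008140000082000001004000000020000200c000038100000281c0000281e0000201e000000140000000200000808000008020000181600000014000020180000201a0000181c0000000200000014000010160000281a000028260000200c0000381e0000201e0000081e00000814000000140000082000000002000010160000201a000008080000000200002822000008220000180a0000280e0000201c0000180a00001816000028240000182200000014000008200000201800000014000010160000201a000000020000201c00002826)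 80 K3_0 K3_1 = true := by
  decide +kernel

theorem en3 : chkEnd nets 24 5 3 rels [0,1,2,3,4,5,6] (nat_lit 0xfffff8) 21 K3_1 = true := by decide +kernel

theorem up3 {H : Type*} [Group H] {g : ℕ → H} (hg : ∀ r ∈ rels, ev g r = 1) : CardLe (genL g [0,1,2,3,4,5,6]) 20160 :=
  CardLe.lev ok hg (ded_let ok (by decide) hg hP dd3_0 (defPhase_sound _ ok hg hP df3))
    en3 (up2 hg)

noncomputable def K4_0 : ℕ := (joinL 24 [(nat_lit 0x0),
  (nat_lit 0x112000),
  (nat_lit 0xcac060),
  (nat_lit 0x100),
  (nat_lit 0x0),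
  (nat_lit 0x241690),
  (nat_lit 0x800),
  (nat_lit 0x8),
  (nat_lit 0x0),
  (nat_lit 0x0)])

theorem df4 : chkDef nets 24 2 rels (ivl 0 240) (nat_lit 0x1400000010000000040000000300000000000000090000000300000009) 8 K4_0 = true := by
  decide +kernel

noncomputable def K4_1 : ℕ := (joinL 24 [(nat_lit 0xfffffc),
  (nat_lit 0xfffffc),
  (nat_lit 0xfffffc),
  (nat_lit 0xfffffc),
  (nat_lit 0xfffffc),
  (nat_lit 0xfffffc),
  (nat_lit 0xfffffc),
  (nat_lit 0xfffffc),
  (nat_lit 0x0),
  (nat_lit 0x0)])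

theorem dd4_0 : chkDed nets 24 2 rels (letS [0,1,2,3,4,5,6]) (nat_lit 0x1000000030000000500000007000000090000000b0000000d0000080600000814000008020000080800000828000008200000180a0000102a000000020000282c0000182e00000014000008220000282e00000820000018240000000200001004000020260000200c000000020000001400001004000028260000181c00001822000040240000403000003030000000020000081400000820000010040000182a000000020000200c000038100000281c0000302e0000202e0000281e0000201e000000140000000200000808000008280000080200001816000010160000182a000020180000201a000028260000181c0000302e0000102e0000381e0000181e0000102400000014000000020000080800000820000010160000180a0000202c0000082800001822000018160000001e0000182a00002824000020180000200e0000201c000010220000202e000000020000001400000820000010160000202c0000201a0000282600000022000000020000202e) 94 K4_0 K4_1 = true := by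
  decide +kernel

theorem en4 : chkEnd nets 24 5 2 rels [0,1,2,3,4,5,6,7] (nat_lit 0xfffffc) 22 K4_1 = true := by decide +kernel

theorem up4 {H : Type*} [Group H] {g : ℕ → H} (hg : ∀ r ∈ rels, ev g r = 1) : CardLe (genL g [0,1,2,3,4,5,6,7]) 443520 :=
  CardLe.lev ok hg (ded_let ok (by decide) hg hP dd4_0 (defPhase_sound _ ok hg hP df4))
    en4 (up3 hg)

noncomputable def K5_0 : ℕ := (joinL 24 [(nat_lit 0x0),
  (nat_lit 0x2c9040),
  (nat_lit 0x24920),
  (nat_lit 0x200),
  (nat_lit 0x0),
  (nat_lit 0xd02410),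
  (nat_lit 0x88),
  (nat_lit 0x4),
  (nat_lit 0x10000),
  (nat_lit 0x0)])

theorem df5 : chkDef nets 24 1 rels (ivl 0 240) (nat_lit 0x190000000400000000000000090000000000000003000000090000001000000014) 9 K5_0 = true := by
  decide +kernel

noncomputable def K5_1 : ℕ := (joinL 24 [(nat_lit 0xfffffe),
  (nat_lit 0xfffffe),
  (nat_lit 0xfffffe),
  (nat_lit 0xfffffe),
  (nat_lit 0xfffffe),
  (nat_lit 0xfffffe),
  (nat_lit 0xfffffe),
  (nat_lit 0xfffffe),
  (nat_lit 0xfffffe),
  (nat_lit 0x0)])

theorem dd5_0 : chkDed nets 24 1 rels (letS [0,1,2,3,4,5,6,7]) (nat_lit 0x1000000030000000500000007000000090000000b0000000d0000000f00000814000008020000080600000820000010040000080800000832000008280000000200002834000028360000083a000030380000081400000820000008060000281a0000281c0000200c0000001400000002000028260000382400000002000010040000281e00000802000000020000201a0000201c0000180a000000020000200c00000002000038100000280e000018160000381e0000201e00001034000008080000001400000814000008280000182a0000202e000038100000202c0000082e000008280000180a0000181600000014000020180000202c0000001400001016000008280000201a000000020000201c000010040000082e00000828000000020000280e0000280c0000182a000058360000381e0000201e0000101e0000081e000008140000282600002824000010240000282200002022000010220000101600002826000000220000201a000018260000281e0000202e00003034000018340000102a00004038000020380000703a0000183a000030340000202400003830000000020000282c000040380000182e0000183400000014000008320000282e)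 113 K5_0 K5_1 = true := by
  decide +kernel

theorem en5 : chkEnd nets 24 5 1 rels [0,1,2,3,4,5,6,7,8] (nat_lit 0xfffffe) 23 K5_1 = true := by decide +kernel

theorem up5 {H : Type*} [Group H] {g : ℕ → H} (hg : ∀ r ∈ rels, ev g r = 1) : CardLe (genL g [0,1,2,3,4,5,6,7,8]) 10200960 :=
  CardLe.lev ok hg (ded_let ok (by decide) hg hP dd5_0 (defPhase_sound _ ok hg hP df5))
    en5 (up4 hg)

noncomputable def K6_0 : ℕ := (joinL 24 [(nat_lit 0x0),
  (nat_lit 0x404800),
  (nat_lit 0x858240),
  (nat_lit 0x280120),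
  (nat_lit 0x0),
  (nat_lit 0x21000),
  (nat_lit 0x102000),
  (nat_lit 0x0),
  (nat_lit 0x2),
  (nat_lit 0x49c)])

theorem df6 : chkDef nets 24 0 rels (ivl 0 240) (nat_lit 0x1e00000009000000100000000000000004000000030000001e0000000900000019) 9 K6_0 = true := by
  decide +kernel

noncomputable def K6_1 : ℕ := (joinL 24 [(nat_lit 0xffffff),
  (nat_lit 0xffffff),
  (nat_lit 0xffffff),
  (nat_lit 0xffffff),
  (nat_lit 0xffffff),
  (nat_lit 0xffffff),
  (nat_lit 0xffffff),
  (nat_lit 0xffffff),
  (nat_lit 0xffffff),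
  (nat_lit 0xffffff)])

theorem dd6_0 : chkDed nets 24 0 rels (letS [0,1,2,3,4,5,6,7,8]) (joinL 4096 [nat_lit 0x20260000001400001816000000140000304200000842000018220000303e00000814000010160000201c00000808000008060000202e0000082e0000100a0000202c000008280000200c00000002000048440000001400001816000028220000001400000820000020180000202e00000014000008280000181c000000020000182a0000082e0000081e000008280000081400001824000020460000384800000002000010040000200e00003010000000020000200c0000182a000000020000281a0000200e0000202c000010040000000200000014000018160000182a0000381e00002826000010240000201e0000281c0000001400000820000018220000101600002844000028220000002200002834000040420000204200003844000018440000081400002018000028260000082200000014000010160000201a0000282e000038460000083c00000002000040420000203e00003842000028420000184400004036000000140000082800000802000020180000201a000000140000000200001016000028260000201c00003034000018340000203e00002840000048460000703a0000183a00004038000020380000704800000832000008200000384000001840000000400000000200003042000030400000202600001022000000220000283a00004838000000220000003a000000020000103400005848,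
    nat_lit 0x1000000030000000500000007000000090000000b0000000d0000000f00000011000008060000083c000008080000080200000814000008200000180a000008320000183e0000004000000002]) 148 K6_0 K6_1 = true := by
  decide +kernel

theorem en6 : chkEnd nets 24 5 0 rels (List.range 10) (nat_lit 0xffffff) 24 K6_1 = true := by decide +kernel

theorem up {H : Type*} [Group H] {g : ℕ → H} (hg : ∀ r ∈ rels, ev g r = 1) : CardLe (genL g (List.range 10)) 244823040 :=
  CardLe.lev ok hg (ded_let ok (by decide) hg hP dd6_0 (defPhase_sound _ ok hg hP df6))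
    en6 (up5 hg)

theorem lo0 : CardGe (genL (PP nets) [0,1]) 3 :=
  CardGe.stepL (L := 5) (b := 6) (n := 3) (ys := []) (prog := [1,1]) ok (cardGe_one _)
    (genL_mono _ (by decide)) (by decide +kernel) (by decide +kernel)

theorem lo1 : CardGe (genL (PP nets) [0,1,2,3]) 48 :=
  CardGe.stepL (L := 5) (b := 5) (n := 16) (ys := [0,1]) (prog := [3,2,1,3,2]) ok (lo0)
    (genL_mono _ (by decide)) (by decide +kernel) (by decide +kernel)

theorem lo2 : CardGe (genL (PP nets) [0,1,2,3,4,5]) 960 :=
  CardGe.stepL (L := 5) (b := 4) (n := 20) (ys := [0,1,2,3]) (prog := [5,5,3,2,1,5,5,5]) ok (lo1)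
    (genL_mono _ (by decide)) (by decide +kernel) (by decide +kernel)

theorem lo3 : CardGe (genL (PP nets) [0,1,2,3,4,5,6]) 20160 :=
  CardGe.stepL (L := 5) (b := 3) (n := 21) (ys := [0,1,2,3,4,5]) (prog := [6,5,2,1,6,5,5,6]) ok (lo2)
    (genL_mono _ (by decide)) (by decide +kernel) (by decide +kernel)

theorem lo4 : CardGe (genL (PP nets) [0,1,2,3,4,5,6,7]) 443520 :=
  CardGe.stepL (L := 5) (b := 2) (n := 22) (ys := [0,1,2,3,4,5,6]) (prog := [7,6,7,5,2,5,6,7,5]) ok (lo3)
    (genL_mono _ (by decide)) (by decide +kernel) (by decide +kernel)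

theorem lo5 : CardGe (genL (PP nets) [0,1,2,3,4,5,6,7,8]) 10200960 :=
  CardGe.stepL (L := 5) (b := 1) (n := 23) (ys := [0,1,2,3,4,5,6,7]) (prog := [8,7,6,1,5,2,6,8]) ok (lo4)
    (genL_mono _ (by decide)) (by decide +kernel) (by decide +kernel)

theorem lo6 : CardGe (genL (PP nets) (List.range 10)) 244823040 :=
  CardGe.stepL (L := 5) (b := 0) (n := 24) (ys := [0,1,2,3,4,5,6,7,8]) (prog := [9,8,6,5,3,9,7,8]) ok (lo5)
    (genL_mono _ (by decide)) (by decide +kernel) (by decide +kernel)

/-- the group. -/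
abbrev G : Type := PG nets 10

theorem lo : CardGe (PG nets 10) 244823040 := lo6

theorem card : Nat.card G = 244823040 := PG.card (up hP) lo

noncomputable abbrev g : ℕ → G := PG.g nets 10

noncomputable abbrev φ : G →* Perm ℕ := (PG nets 10).subtype

theorem rep : PermRep g nets 24 10 φ := PG.rep ok

theorem hl : chkLet (List.range 10) rels = true := by decide +kernel

theorem hg : ∀ r ∈ rels, ev g r = 1 := PG.hg ok hl hP

theorem lifts : Lifts g 10 rels := PG.lifts ok hl hP (by decide) card fun _ _ _ h => up h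

end Cfsg.Agent.Known.M24P
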