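import Cfsg.Agent.Known.Strong
import Cfsg.Agent.Known.NetTab

/-! PSp(6,2) as a permutation group `G` of degree 63 and order 1451520 with a strong presentation (generated
certificate, helper25): `nets`, `rels`, `up`, `card`, `rep`, `hg`, `lifts`. -/

set_option maxRecDepth 100000
set_option exponentiation.threshold 100000

namespace Cfsg.Agent.Known.S62P

open Cfsg.Agent.Spor Equiv

noncomputable def n0 : Net :=
  Net.cons 4 (nat_lit 0x8000800000000) <|
  Net.cons 8 (nat_lit 0x8000000000) <|
  Net.cons 16 (nat_lit 0x8000) <|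
  Net.cons 32 (nat_lit 0x8000) <|
  Net.cons 16 (nat_lit 0x8000008000) <|
  Net.cons 8 (nat_lit 0x8008800000000) <|
  Net.cons 4 (nat_lit 0x70f070f00000000) <|
  Net.nil

noncomputable def n1 : Net :=
  Net.cons 2 (nat_lit 0x202000002020000) <|
  Net.cons 4 (nat_lit 0x8000000080000) <|
  Net.cons 8 (nat_lit 0x8000800000) <|
  Net.cons 16 (nat_lit 0x8000008000) <|
  Net.cons 8 (nat_lit 0x8008000880000) <|
  Net.cons 4 (nat_lit 0x20a0000020a0000) <|
  Net.cons 2 (nat_lit 0x1313000013130000) <|
  Net.nil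

noncomputable def n2 : Net :=
  Net.cons 2 (nat_lit 0x2000200000) <|
  Net.cons 8 (nat_lit 0x800000) <|
  Net.cons 16 (nat_lit 0x8000000000) <|
  Net.cons 32 (nat_lit 0x800000) <|
  Net.cons 16 (nat_lit 0x8000008000) <|
  Net.cons 8 (nat_lit 0x2000a00000) <|
  Net.cons 4 (nat_lit 0x50505050000) <|
  Net.cons 2 (nat_lit 0x133313330000) <|
  Net.nil

noncomputable def n3 : Net :=
  Net.cons 1 (nat_lit 0x4040000040400) <|
  Net.cons 4 (nat_lit 0x80000000800) <|
  Net.cons 8 (nat_lit 0x8000000080000) <|
  Net.cons 16 (nat_lit 0x80000000800) <|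
  Net.cons 8 (nat_lit 0x8008000080080) <|
  Net.cons 4 (nat_lit 0x40c0000040c00) <|
  Net.cons 1 (nat_lit 0x15150000151500) <|
  Net.nil

noncomputable def n4 : Net :=
  Net.cons 1 (nat_lit 0x1100001100040040) <|
  Net.cons 2 (nat_lit 0x20200200000000) <|
  Net.cons 4 (nat_lit 0x202080800080000) <|
  Net.cons 8 (nat_lit 0x20000000800000) <|
  Net.cons 16 (nat_lit 0x8000000000) <|
  Net.cons 32 (nat_lit 0x800000) <|
  Net.cons 16 (nat_lit 0x208000008000) <|
  Net.cons 8 (nat_lit 0x22000800880040) <|
  Net.cons 4 (nat_lit 0x70a0d0a070c0300) <|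
  Net.cons 2 (nat_lit 0x1331331300000000) <|
  Net.cons 1 (nat_lit 0x1100001100151540) <|
  Net.nil

noncomputable def n5 : Net :=
  Net.cons 1 (nat_lit 0x110044400000) <|
  Net.cons 2 (nat_lit 0x20020001222000) <|
  Net.cons 4 (nat_lit 0x80404000000) <|
  Net.cons 8 (nat_lit 0x400200000) <|
  Net.cons 16 (nat_lit 0x40000000000) <|
  Net.cons 32 (nat_lit 0x4000000) <|
  Net.cons 16 (nat_lit 0x40000002000) <|
  Net.cons 8 (nat_lit 0x20008400600080) <|
  Net.cons 4 (nat_lit 0x5000a0705090500) <|
  Net.cons 2 (nat_lit 0x1320130023223300) <|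
  Net.cons 1 (nat_lit 0x111544550000) <|
  Net.nil

noncomputable def n6 : Net :=
  Net.cons 2 (nat_lit 0x200202002002020) <|
  Net.cons 4 (nat_lit 0xa0000000a0000) <|
  Net.cons 8 (nat_lit 0x20000000200000) <|
  Net.cons 32 (nat_lit 0x7fff2000) <|
  Net.cons 16 (nat_lit 0x200000002000) <|
  Net.cons 8 (nat_lit 0x28000000280000) <|
  Net.cons 4 (nat_lit 0xa0808000a0808) <|
  Net.cons 2 (nat_lit 0x301303003013030) <|
  Net.nil

noncomputable def n7 : Net :=
  Net.cons 1 (nat_lit 0x41000005440000) <|
  Net.cons 2 (nat_lit 0x202233100200) <|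
  Net.cons 4 (nat_lit 0x6090707000a0800) <|
  Net.cons 8 (nat_lit 0x38000200280000) <|
  Net.cons 16 (nat_lit 0x80000000000) <|
  Net.cons 32 (nat_lit 0x26997a58) <|
  Net.cons 16 (nat_lit 0x80200000020) <|
  Net.cons 8 (nat_lit 0x78000200280080) <|
  Net.cons 4 (nat_lit 0x6090f07010e0800) <|
  Net.cons 2 (nat_lit 0x1302333300310) <|
  Net.cons 1 (nat_lit 0x151000015450000) <|
  Net.nil

noncomputable def n8 : Net :=
  Net.cons 1 (nat_lit 0x5401405001410) <|
  Net.cons 2 (nat_lit 0x1023321322002000) <|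
  Net.cons 4 (nat_lit 0x601020e01000100) <|
  Net.cons 8 (nat_lit 0x61004000000000) <|
  Net.cons 16 (nat_lit 0x200000000000) <|
  Net.cons 32 (nat_lit 0x4b2a27c5) <|
  Net.cons 16 (nat_lit 0x300000002020) <|
  Net.cons 8 (nat_lit 0x4500a50030003d) <|
  Net.cons 4 (nat_lit 0x603020e01020100) <|
  Net.cons 2 (nat_lit 0x1033331332002001) <|
  Net.cons 1 (nat_lit 0x5501505401450) <|
  Net.nil

noncomputable def n9 : Net :=
  Net.cons 1 (nat_lit 0x455405015100140) <|
  Net.cons 2 (nat_lit 0x222102103110210) <|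
  Net.cons 4 (nat_lit 0x4060a0d000f0000) <|
  Net.cons 8 (nat_lit 0xc00de00870080) <|
  Net.cons 16 (nat_lit 0x800000000) <|
  Net.cons 32 (nat_lit 0x135d8355) <|
  Net.cons 16 (nat_lit 0x4ed9000066b7) <|
  Net.cons 8 (nat_lit 0x6800fe00c30088) <|
  Net.cons 4 (nat_lit 0x30e09040b0405) <|
  Net.cons 2 (nat_lit 0x222102123112210) <|
  Net.cons 1 (nat_lit 0x455405015100140) <|
  Net.nil

noncomputable def nets : List Net := [n0, n1, n2, n3, n4, n5, n6, n7, n8, n9]

theorem ok : netsOk 63 nets = true := by decide +kernel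

def rels : List (List ℕ) := [[0,0],[1,1],[2,2],[1,2,1,2],[0,1,0,1],[0,2,0,2],[3,3],[4,4],[5,5],[4,5,4,5],[3,4,3,4],[3,5,3,5],[0,3,0,3],[0,
  4,0,4],[0,5,0,5],[1,3,1,3],[1,4,1,4],[1,5,1,5],[2,3,2,3],[2,4,2,4],[2,5,2,5],[6,6],[7,7],[0,6,2,6],[3,7,3,7],
  [0,2,7,6,7],[0,3,4,6,5,6],[1,3,5,7,5,7,5,7],[2,3,7,2,7,5,4,7],[8,8],[0,3,4,5,8,6,8],[0,1,7,8,2,4,8,7],[5,8,5,
  8,5,8],[0,5,6,7,4,8,3,8,3,8],[0,8,5,7,8,3,8,7,5,8],[9,9],[0,9,8,2,8,9],[0,7,8,9,0,7,8,9],[0,8,3,8,0,9,3,9],[0,
  8,9,4,9,1,9,4,9,8],[1,2,4,9,5,6,5,7,9],[0,8,4,6,9,1,9,4,2,9]]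

theorem plhP_6 : ∀ p < 6, chkPl nets 63 6 rels p = true :=
  forall_lt_add (a := 0) (b := 6) (fun _ h => absurd h (Nat.not_lt_zero _)) (by decide +kernel)

theorem hP : ∀ r ∈ rels, ev (PP nets) r = 1 := ev_eq_one_of_planes ok (by decide) plhP_6

noncomputable def K0_0 : ℕ := (joinL 63 [(nat_lit 0x800000000),
  (nat_lit 0x0),
  (nat_lit 0x0),
  (nat_lit 0x0),
  (nat_lit 0x0),
  (nat_lit 0x0),
  (nat_lit 0x0),
  (nat_lit 0x0),
  (nat_lit 0x0),
  (nat_lit 0x0)])

theorem df0 : chkDef nets 63 31 rels (ivl 0 630) (nat_lit 0x0) 1 K0_0 = true := by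
  decide +kernel

noncomputable def K0_1 : ℕ := (joinL 63 [(nat_lit 0x880000000),
  (nat_lit 0x0),
  (nat_lit 0x0),
  (nat_lit 0x0),
  (nat_lit 0x0),
  (nat_lit 0x0),
  (nat_lit 0x0),
  (nat_lit 0x0),
  (nat_lit 0x0),
  (nat_lit 0x0)])

theorem dd0_0 : chkDed nets 63 31 rels (letS []) (nat_lit 0x800) 1 K0_0 K0_1 = true := by
  decide +kernel

theorem en0 : chkEnd nets 63 6 31 rels [0] (nat_lit 0x880000000) 2 K0_1 = true := by decide +kernel

theorem up0 {H : Type*} [Group H] {g : ℕ → H} (hg : ∀ r ∈ rels, ev g r = 1) : CardLe (genL g [0]) 2 :=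
  CardLe.lev ok hg (ded_let ok (by decide) hg hP dd0_0 (defPhase_sound _ ok hg hP df0))
    en0 (cardLe_nil g)

noncomputable def K1_0 : ℕ := (joinL 63 [(nat_lit 0x0),
  (nat_lit 0x20000),
  (nat_lit 0x280000),
  (nat_lit 0x0),
  (nat_lit 0x0),
  (nat_lit 0x0),
  (nat_lit 0x0),
  (nat_lit 0x0),
  (nat_lit 0x0),
  (nat_lit 0x0)])

theorem df1 : chkDef nets 63 15 rels (ivl 0 630) (nat_lit 0x100000002) 2 K1_0 = true := by
  decide +kernel

noncomputable def K1_1 : ℕ := (joinL 63 [(nat_lit 0x2a8000),
  (nat_lit 0x2a8000),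
  (nat_lit 0x2a8000),
  (nat_lit 0x0),
  (nat_lit 0x0),
  (nat_lit 0x0),
  (nat_lit 0x0),
  (nat_lit 0x0),
  (nat_lit 0x0),
  (nat_lit 0x0)])

theorem dd1_0 : chkDed nets 63 15 rels (letS [0]) (nat_lit 0x1000008040000080200001006000010080000100a) 6 K1_0 K1_1 = true := by
  decide +kernel

theorem en1 : chkEnd nets 63 6 15 rels [0,1,2] (nat_lit 0x2a8000) 4 K1_1 = true := by decide +kernel

theorem up1 {H : Type*} [Group H] {g : ℕ → H} (hg : ∀ r ∈ rels, ev g r = 1) : CardLe (genL g [0,1,2]) 8 :=
  CardLe.lev ok hg (ded_let ok (by decide) hg hP dd1_0 (defPhase_sound _ ok hg hP df1))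
    en1 (up0 hg)

noncomputable def K2_0 : ℕ := (joinL 63 [(nat_lit 0x0),
  (nat_lit 0x0),
  (nat_lit 0x0),
  (nat_lit 0x400),
  (nat_lit 0x4800),
  (nat_lit 0x3300),
  (nat_lit 0x0),
  (nat_lit 0x0),
  (nat_lit 0x0),
  (nat_lit 0x0)])

theorem df2 : chkDef nets 63 7 rels (ivl 0 630) (nat_lit 0x60000000700000008) 3 K2_0 = true := by
  decide +kernel

noncomputable def K2_1 : ℕ := (joinL 63 [(nat_lit 0x7f80),
  (nat_lit 0x7f80),
  (nat_lit 0x7f80),
  (nat_lit 0x7f80),
  (nat_lit 0x7f80),
  (nat_lit 0x7f80),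
  (nat_lit 0x0),
  (nat_lit 0x0),
  (nat_lit 0x0),
  (nat_lit 0x0)])

theorem dd2_0 : chkDed nets 63 7 rels (letS [0,1,2]) (nat_lit 0x10000000300000005000008100000080e0000080c0000101200001016000010140000101e000010180000102400001022000010200000101c0000101a0000102800001026) 18 K2_0 K2_1 = true := by
  decide +kernel

theorem en2 : chkEnd nets 63 6 7 rels [0,1,2,3,4,5] (nat_lit 0x7f80) 8 K2_1 = true := by decide +kernel

theorem up2 {H : Type*} [Group H] {g : ℕ → H} (hg : ∀ r ∈ rels, ev g r = 1) : CardLe (genL g [0,1,2,3,4,5]) 64 :=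
  CardLe.lev ok hg (ded_let ok (by decide) hg hP dd2_0 (defPhase_sound _ ok hg hP df2))
    en2 (up1 hg)

noncomputable def K3_0 : ℕ := (joinL 63 [(nat_lit 0x2800000000),
  (nat_lit 0x0),
  (nat_lit 0x0),
  (nat_lit 0x0),
  (nat_lit 0x5500000000),
  (nat_lit 0x0),
  (nat_lit 0x20),
  (nat_lit 0x280000050),
  (nat_lit 0x0),
  (nat_lit 0x0)])

theorem df3 : chkDef nets 63 3 rels (ivl 0 630) (nat_lit 0x1500000016000000000000000700000016) 5 K3_0 = true := by
  decide +kernel

noncomputable def K3_1 : ℕ := (joinL 63 [(nat_lit 0x7f80000078),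
  (nat_lit 0x7f80000078),
  (nat_lit 0x7f80000078),
  (nat_lit 0x7f80000078),
  (nat_lit 0x7f80000078),
  (nat_lit 0x7f80000078),
  (nat_lit 0x7f80000078),
  (nat_lit 0x7f80000078),
  (nat_lit 0x0),
  (nat_lit 0x0)])

theorem dd3_0 : chkDed nets 63 3 rels (letS [0,1,2,3,4,5]) (nat_lit 0x1000000030000000500000007000000090000000b0000082c0000080e000008000000082a0000101a000008320000102e0000002e0000103000000804000010260000183200001818000018240000182e00001014000020340000103000001034000010380000283800000810000028340000283600000036000020320000183800001808000010060000002e000030360000003600001034) 39 K3_0 K3_1 = true := by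
  decide +kernel

theorem en3 : chkEnd nets 63 6 3 rels [0,1,2,3,4,5,6,7] (nat_lit 0x7f80000078) 12 K3_1 = true := by decide +kernel

theorem up3 {H : Type*} [Group H] {g : ℕ → H} (hg : ∀ r ∈ rels, ev g r = 1) : CardLe (genL g [0,1,2,3,4,5,6,7]) 768 :=
  CardLe.lev ok hg (ded_let ok (by decide) hg hP dd3_0 (defPhase_sound _ ok hg hP df3))
    en3 (up2 hg)

noncomputable def K4_0 : ℕ := (joinL 63 [(nat_lit 0x407800000000),
  (nat_lit 0x0),
  (nat_lit 0x330000000000),
  (nat_lit 0x88000000000),
  (nat_lit 0x280000500),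
  (nat_lit 0x0),
  (nat_lit 0x0),
  (nat_lit 0x7878),
  (nat_lit 0x40500000284),
  (nat_lit 0x0)])

theorem df4 : chkDef nets 63 0 rels (ivl 0 630) (nat_lit 0x1d0000000000000006000000020000001d00000016000000070000000000000016) 9 K4_0 = true := by
  decide +kernel

noncomputable def K4_1 : ℕ := (joinL 63 [(nat_lit 0x7fff80007ffd),
  (nat_lit 0x7fff80007ffd),
  (nat_lit 0x7fff80007ffd),
  (nat_lit 0x7fff80007ffd),
  (nat_lit 0x7fff80007ffd),
  (nat_lit 0x7fff80007ffd),
  (nat_lit 0x7fff80007ffd),
  (nat_lit 0x7fff80007ffd),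
  (nat_lit 0x7fff80007ffd),
  (nat_lit 0x0)])

theorem dd4_0 : chkDed nets 63 0 rels (letS [0,1,2,3,4,5,6,7]) (nat_lit 0x1000000030000000500000007000000090000000b0000000d0000000f0000082c000008000000083a000008040000080e0000080c000018240000181a000010180000100a00001030000018320000283c0000283e000038420000080e0000182e0000082e000018140000181a0000182e0000183c000040440000104400000810000018160000181c000018340000283c000018420000082c0000183800000036000018080000002e000010260000101a0000101c000010280000083e00002838000010340000284000002040000008100000080e0000101600001022000010200000183400002836000040420000183c0000303e00003836000010300000082c00000810000018180000101600001014000030380000303c0000101e0000101800001024000010300000183c0000404200003844000008100000181800001030000010140000181c0000181200002840000000360000203e0000283400001030000038440000003e000008040000182e000018320000102e000018380000002e0000184200001034000018380000002e0000083e0000103600000036000010340000484400000844000018080000303e0000083a0000083e0000303600001034)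 113 K4_0 K4_1 = true := by
  decide +kernel

theorem en4 : chkEnd nets 63 6 0 rels [0,1,2,3,4,5,6,7,8] (nat_lit 0x7fff80007ffd) 30 K4_1 = true := by decide +kernel

theorem up4 {H : Type*} [Group H] {g : ℕ → H} (hg : ∀ r ∈ rels, ev g r = 1) : CardLe (genL g [0,1,2,3,4,5,6,7,8]) 23040 :=
  CardLe.lev ok hg (ded_let ok (by decide) hg hP dd4_0 (defPhase_sound _ ok hg hP df4))
    en4 (up3 hg)

noncomputable def K5_0 : ℕ := (joinL 63 [(nat_lit 0x0),
  (nat_lit 0x1000000),
  (nat_lit 0x50000000),
  (nat_lit 0x211c00000d4180),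
  (nat_lit 0x24c00001000),
  (nat_lit 0x0),
  (nat_lit 0x5500000000000040),
  (nat_lit 0x2a8000002a800000),
  (nat_lit 0x52a00080320208),
  (nat_lit 0xc41b30440ac35)])

theorem df5 : chkDef nets 63 1 rels (ivl 0 630) (nat_lit 0x2300000001000000020000001500000016000000230000001d00000006000000230000000700000015) 11 K5_0 = true := by
  decide +kernel

noncomputable def K5_1 : ℕ := (joinL 63 [(nat_lit 0x7fffffffffffffff),
  (nat_lit 0x7fffffffffffffff),
  (nat_lit 0x7fffffffffffffff),
  (nat_lit 0x7fffffffffffffff),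
  (nat_lit 0x7fffffffffffffff),
  (nat_lit 0x7fffffffffffffff),
  (nat_lit 0x7fffffffffffffff),
  (nat_lit 0x7fffffffffffffff),
  (nat_lit 0x7fffffffffffffff),
  (nat_lit 0x7fffffffffffffff)])

theorem dd5_0 : chkDed nets 63 1 rels (letS [0,1,2,3,4,5,6,7,8]) (joinL 4096 [nat_lit 0x1028000000360000101200000832000028440000080200001024000000480000080400001830000018140000181e0000101e000018080000183200001816000000320000183000001820000040520000082e0000184c0000084c00000804000018080000082a00001020000028480000384c0000284c0000284a00002852000008520000384e0000004e0000204a00000850000018320000082c00000800000008040000083a000028380000101e0000181800001808000010240000182e0000181a0000101a000008100000082a00001830000010220000283c0000183400000852000018160000284a00003850000008420000082c0000082a0000083a0000081000001032000008320000304a000008040000083a000018480000082c000018320000100a0000082e0000181a000010060000283e0000082a0000181c0000182800002838000020340000183c0000103000002834000008100000080e00002036000028400000404e0000384e0000284e000008460000080e000010140000101a000000360000284a0000181200002032000008320000003200002048000000480000283c0000384c0000383e0000203e000020380000182e000008460000083a0000082c00001034000010480000101e000010300000203400002048000020400000080e000018480000283c0000384c0000284a0000283e00000836,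
    nat_lit 0x2e0000100600000048000010080000100a0000102e000018320000304c0000304a000010500000083a0000080e0000181e00001824000010300000182000001848000020340000002e00000032000008000000102e0000083200001818000018240000100a0000303e0000183e000030380000283800000842000030520000284e0000004e00000810000010300000080e0000101600001034000010220000101200000036000018480000101e0000101c0000080e0000080200002034000010260000181200001008000010240000002e0000303c0000283c000010300000102000002040000000480000304c00001018000018160000101a0000284a000018180000101400003842000000440000082c0000102e000000480000101800001024000010300000283e00001832000010340000304c0000484e0000084e0000080e000010260000102e0000283c0000003c00001030000000480000384c0000284c000008000000084600001018000010240000304c00001842000010340000384a0000284a000038420000384400001844000008460000082c0000080e00001830000010140000083e0000203200001032000010480000203e0000101e000008040000083a000028520000182e0000082a0000101e00001808000020400000283c00001020000038420000183c00001022000008100000384c0000284c,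
    nat_lit 0x1000000030000000500000007000000090000000b0000000d0000000f00000011000008460000080c0000083a0000082c0000082a0000080e0000080400000802]) 273 K5_0 K5_1 = true := by
  decide +kernel

theorem en5 : chkEnd nets 63 6 1 rels (List.range 10) (nat_lit 0x7fffffffffffffff) 63 K5_1 = true := by decide +kernel

theorem up {H : Type*} [Group H] {g : ℕ → H} (hg : ∀ r ∈ rels, ev g r = 1) : CardLe (genL g (List.range 10)) 1451520 :=
  CardLe.lev ok hg (ded_let ok (by decide) hg hP dd5_0 (defPhase_sound _ ok hg hP df5))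
    en5 (up4 hg)

theorem lo0 : CardGe (genL (PP nets) [0]) 2 :=
  CardGe.stepL (L := 6) (b := 31) (n := 2) (ys := []) (prog := [0]) ok (cardGe_one _)
    (genL_mono _ (by decide)) (by decide +kernel) (by decide +kernel)

theorem lo1 : CardGe (genL (PP nets) [0,1,2]) 8 :=
  CardGe.stepL (L := 6) (b := 15) (n := 4) (ys := [0]) (prog := [2,1]) ok (lo0)
    (genL_mono _ (by decide)) (by decide +kernel) (by decide +kernel)

theorem lo2 : CardGe (genL (PP nets) [0,1,2,3,4,5]) 64 :=
  CardGe.stepL (L := 6) (b := 7) (n := 8) (ys := [0,1,2]) (prog := [5,4,3]) ok (lo1)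
    (genL_mono _ (by decide)) (by decide +kernel) (by decide +kernel)

theorem lo3 : CardGe (genL (PP nets) [0,1,2,3,4,5,6,7]) 768 :=
  CardGe.stepL (L := 6) (b := 3) (n := 12) (ys := [0,1,2,3,4,5]) (prog := [7,6,7,5,4,7]) ok (lo2)
    (genL_mono _ (by decide)) (by decide +kernel) (by decide +kernel)

theorem lo4 : CardGe (genL (PP nets) [0,1,2,3,4,5,6,7,8]) 23040 :=
  CardGe.stepL (L := 6) (b := 0) (n := 30) (ys := [0,1,2,3,4,5,6,7]) (prog := [8,7,5,4,3,8,7,5]) ok (lo3)
    (genL_mono _ (by decide)) (by decide +kernel) (by decide +kernel)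

theorem lo5 : CardGe (genL (PP nets) (List.range 10)) 1451520 :=
  CardGe.stepL (L := 6) (b := 1) (n := 63) (ys := [0,1,2,3,4,5,6,7,8]) (prog := [9,8,6,5,1,9,8,7,4,9]) ok (lo4)
    (genL_mono _ (by decide)) (by decide +kernel) (by decide +kernel)

/-- the group. -/
abbrev G : Type := PG nets 10

theorem lo : CardGe (PG nets 10) 1451520 := lo5

theorem card : Nat.card G = 1451520 := PG.card (up hP) lo

noncomputable abbrev g : ℕ → G := PG.g nets 10

noncomputable abbrev φ : G →* Perm ℕ := (PG nets 10).subtype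

theorem rep : PermRep g nets 63 10 φ := PG.rep ok

theorem hl : chkLet (List.range 10) rels = true := by decide +kernel

theorem hg : ∀ r ∈ rels, ev g r = 1 := PG.hg ok hl hP

theorem lifts : Lifts g 10 rels := PG.lifts ok hl hP (by decide) card fun _ _ _ h => up h

end Cfsg.Agent.Known.S62P
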