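import Cfsg.Agent.Known.Strong
import Cfsg.Agent.Known.NetTab

/-! SL(2,9) as a permutation group `G` of degree 80 and order 720 with a strong presentation (generated
certificate, helper25): `nets`, `rels`, `up`, `card`, `rep`, `hg`, `lifts`. -/

set_option maxRecDepth 100000
set_option exponentiation.threshold 100000

namespace Cfsg.Agent.Known.SL29P

open Cfsg.Agent.Spor Equiv

noncomputable def n0 : Net :=
  Net.cons 1 (nat_lit 0x41051454010111000) <|
  Net.cons 2 (nat_lit 0x20010021000022201000) <|
  Net.cons 4 (nat_lit 0x40304000700020000) <|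
  Net.cons 8 (nat_lit 0x400000005000200000) <|
  Net.cons 16 (nat_lit 0x502000000000) <|
  Net.cons 32 (nat_lit 0x4000) <|
  Net.cons 64 (nat_lit 0x4000) <|
  Net.cons 32 (nat_lit 0x50204000) <|
  Net.cons 16 (nat_lit 0x506000002000) <|
  Net.cons 8 (nat_lit 0xc00034005b00290000) <|
  Net.cons 4 (nat_lit 0xe04000c000f060f0b00) <|
  Net.cons 2 (nat_lit 0x11130231231102200000) <|
  Net.cons 1 (nat_lit 0x54104414500045410500) <|
  Net.nil

noncomputable def n1 : Net :=
  Net.cons 1 (nat_lit 0x451101015410044000) <|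
  Net.cons 2 (nat_lit 0x20112010001100000) <|
  Net.cons 4 (nat_lit 0x40008000d0006000000) <|
  Net.cons 8 (nat_lit 0x80000000a00010000) <|
  Net.cons 16 (nat_lit 0xa0100000000) <|
  Net.cons 32 (nat_lit 0x800) <|
  Net.cons 64 (nat_lit 0x800) <|
  Net.cons 32 (nat_lit 0xa010800) <|
  Net.cons 16 (nat_lit 0xa0900000100) <|
  Net.cons 8 (nat_lit 0x4800b000da00610000) <|
  Net.cons 4 (nat_lit 0x3000b040d040f0e0700) <|
  Net.cons 2 (nat_lit 0x32230212122031102000) <|
  Net.cons 1 (nat_lit 0x15514404100504444400) <|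
  Net.nil

noncomputable def n2 : Net :=
  Net.cons 1 (nat_lit 0x1010550411001401000) <|
  Net.cons 2 (nat_lit 0x22002012231012000) <|
  Net.cons 4 (nat_lit 0x40400090400040000) <|
  Net.cons 8 (nat_lit 0x40020000900400000) <|
  Net.cons 16 (nat_lit 0xd6000000000) <|
  Net.cons 32 (nat_lit 0x420) <|
  Net.cons 64 (nat_lit 0x420) <|
  Net.cons 32 (nat_lit 0x9400420) <|
  Net.cons 16 (nat_lit 0x2d6900004000) <|
  Net.cons 8 (nat_lit 0x8400f0009b00440000) <|
  Net.cons 4 (nat_lit 0xe030d00090609040800) <|
  Net.cons 2 (nat_lit 0x1102211331201232100) <|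
  Net.cons 1 (nat_lit 0x11044014101054544100) <|
  Net.nil

noncomputable def n3 : Net :=
  Net.cons 1 (nat_lit 0x4411500450401011400) <|
  Net.cons 2 (nat_lit 0x21132011010102021000) <|
  Net.cons 4 (nat_lit 0x1040308010e00080000) <|
  Net.cons 8 (nat_lit 0x420081006000800000) <|
  Net.cons 16 (nat_lit 0x628000000000) <|
  Net.cons 32 (nat_lit 0x4200) <|
  Net.cons 64 (nat_lit 0x4200) <|
  Net.cons 32 (nat_lit 0x60804200) <|
  Net.cons 16 (nat_lit 0xe3c000008000) <|
  Net.cons 8 (nat_lit 0x5200b9007c00880000) <|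
  Net.cons 4 (nat_lit 0x60a0a08010f06080400) <|
  Net.cons 2 (nat_lit 0x32322312303132131200) <|
  Net.cons 1 (nat_lit 0x50504001104550154500) <|
  Net.nil

noncomputable def n4 : Net :=
  Net.cons 1 (nat_lit 0x44010504000550001010) <|
  Net.cons 2 (nat_lit 0x11310232102300301200) <|
  Net.cons 4 (nat_lit 0xb0d07080100040f0600) <|
  Net.cons 8 (nat_lit 0xc20008000c00710000) <|
  Net.cons 16 (nat_lit 0xd90200000eb2) <|
  Net.cons 32 (nat_lit 0x4816) <|
  Net.cons 64 (nat_lit 0x6ffe) <|
  Net.cons 32 (nat_lit 0x2be0fe45) <|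
  Net.cons 16 (nat_lit 0x1e7100003189) <|
  Net.cons 8 (nat_lit 0xc3002000fc00c600b5) <|
  Net.cons 4 (nat_lit 0x208060f060b0d000e02) <|
  Net.cons 2 (nat_lit 0x10110312120323210201) <|
  Net.cons 1 (nat_lit 0x555041451010411414) <|
  Net.nil

noncomputable def n5 : Net :=
  Net.cons 1 (nat_lit 0x1555045451010411004) <|
  Net.cons 2 (nat_lit 0x101212130233300300) <|
  Net.cons 4 (nat_lit 0x108090c090607020c00) <|
  Net.cons 8 (nat_lit 0x29000d00c600270000) <|
  Net.cons 16 (nat_lit 0xb39300000c4c) <|
  Net.cons 32 (nat_lit 0xa463) <|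
  Net.cons 64 (nat_lit 0xbd7f) <|
  Net.cons 32 (nat_lit 0xf24601f8) <|
  Net.cons 16 (nat_lit 0x80ee0000e522) <|
  Net.cons 8 (nat_lit 0x3700c7008e0082000c) <|
  Net.cons 4 (nat_lit 0x60b050b0e0a050f0903) <|
  Net.cons 2 (nat_lit 0x311232012201210310) <|
  Net.cons 1 (nat_lit 0x54410504000550011410) <|
  Net.nil

noncomputable def nets : List Net := [n0, n1, n2, n3, n4, n5]

theorem ok : netsOk 80 nets = true := by decide +kernel

def rels : List (List ℕ) := [[0,1],[1,0],[2,3],[3,2],[2,2,2],[0,0,0],[0,2,1,3],[4,5],[5,4],[2,4,2,5,5,5],[2,4,3,4,2,4,4],[0,2,5,5,1,5,1,4,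
  4]]

theorem plhP_7 : ∀ p < 7, chkPl nets 80 7 rels p = true :=
  forall_lt_add (a := 0) (b := 7) (fun _ h => absurd h (Nat.not_lt_zero _)) (by decide +kernel)

theorem hP : ∀ r ∈ rels, ev (PP nets) r = 1 := ev_eq_one_of_planes ok (by decide) plhP_7

noncomputable def K0_0 : ℕ := (joinL 80 [(nat_lit 0x0),
  (nat_lit 0x19000),
  (nat_lit 0x0),
  (nat_lit 0x6e00),
  (nat_lit 0x0),
  (nat_lit 0x0)])

theorem df0 : chkDef nets 80 8 rels (ivl 0 480) (nat_lit 0x20000000000000002) 4 K0_0 = true := by
  decide +kernel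

noncomputable def K0_1 : ℕ := (joinL 80 [(nat_lit 0x1ff00),
  (nat_lit 0x1ff00),
  (nat_lit 0x1ff00),
  (nat_lit 0x1ff00),
  (nat_lit 0x0),
  (nat_lit 0x0)])

theorem dd0_0 : chkDed nets 80 8 rels (letS []) (nat_lit 0x80600000802000010080000100c0000100a0000080c0000000600000802000000020000100c000010080000100a0000000c000000060000100a0000100c) 16 K0_0 K0_1 = true := by
  decide +kernel

theorem en0 : chkEnd nets 80 7 8 rels [0,1,2,3] (nat_lit 0x1ff00) 9 K0_1 = true := by decide +kernel

theorem up0 {H : Type*} [Group H] {g : ℕ → H} (hg : ∀ r ∈ rels, ev g r = 1) : CardLe (genL g [0,1,2,3]) 9 :=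
  CardLe.lev ok hg (ded_let ok (by decide) hg hP dd0_0 (defPhase_sound _ ok hg hP df0))
    en0 (cardLe_nil g)

noncomputable def K1_0 : ℕ := (joinL 80 [(nat_lit 0x0),
  (nat_lit 0x71529a11406492040500),
  (nat_lit 0x0),
  (nat_lit 0x868d65682d82013ac200),
  (nat_lit 0x0),
  (nat_lit 0x820008692196cc138fe)])

theorem df1 : chkDef nets 80 0 rels (ivl 0 480) (nat_lit 0x700000000000000020000000700000000000000020000000700000002000000000000000700000002) 11 K1_0 = true := by
  decide +kernel

noncomputable def K1_1 : ℕ := (joinL 80 [(nat_lit 0xffffffffffffffffffff),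
  (nat_lit 0xffffffffffffffffffff),
  (nat_lit 0xffffffffffffffffffff),
  (nat_lit 0xffffffffffffffffffff),
  (nat_lit 0xffffffffffffffffffff),
  (nat_lit 0xffffffffffffffffffff)])

theorem dd1_0 : chkDed nets 80 0 rels (letS [0,1,2,3]) (nat_lit 0x1000000030000000500000007000008100000080600000802000010080000080c0000100c0000100a00000006000008020000100c00001008000000020000000c0000100a00001812000000060000081000000002000010120000101600003014000018140000081400000014000000100000000600000810000018120000101200003014000018140000081400000014000020160000000600000010000008100000080200001812000010080000100a0000080c0000101600000810000000060000000200002812000018140000281600000810000000100000281200001012000030140000281400001814000040160000301600001016000000100000080200000810000000060000100c000028120000100a0000180c0000080200000810000008060000000200001814000010080000100a0000180c0000100c00000016000018120000101200003014000010140000001400003016000028160000201600001816000010160000081600000810000000100000000600000802000000020000100c000000000000100a0000080c000010080000100c000028140000281200003016000030140000180c0000000c0000000600000802000000020000100a0000001000000002000008100000080c0000401600000010000000060000101400000806000018120000081200002816000000160000181400003016)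 128 K1_0 K1_1 = true := by
  decide +kernel

theorem en1 : chkEnd nets 80 7 0 rels (List.range 6) (nat_lit 0xffffffffffffffffffff) 80 K1_1 = true := by decide +kernel

theorem up {H : Type*} [Group H] {g : ℕ → H} (hg : ∀ r ∈ rels, ev g r = 1) : CardLe (genL g (List.range 6)) 720 :=
  CardLe.lev ok hg (ded_let ok (by decide) hg hP dd1_0 (defPhase_sound _ ok hg hP df1))
    en1 (up0 hg)

theorem lo0 : CardGe (genL (PP nets) [0,1,2,3]) 9 :=
  CardGe.stepL (L := 7) (b := 8) (n := 9) (ys := []) (prog := [3,1,3,1]) ok (cardGe_one _)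
    (genL_mono _ (by decide)) (by decide +kernel) (by decide +kernel)

theorem lo1 : CardGe (genL (PP nets) (List.range 6)) 720 :=
  CardGe.stepL (L := 7) (b := 0) (n := 80) (ys := [0,1,2,3]) (prog := [5,5,3,1,5,3,5,1,5,1,5,5]) ok (lo0)
    (genL_mono _ (by decide)) (by decide +kernel) (by decide +kernel)

/-- the group. -/
abbrev G : Type := PG nets 6

theorem lo : CardGe (PG nets 6) 720 := lo1

theorem card : Nat.card G = 720 := PG.card (up hP) lo

noncomputable abbrev g : ℕ → G := PG.g nets 6

noncomputable abbrev φ : G →* Perm ℕ := (PG nets 6).subtype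

theorem rep : PermRep g nets 80 6 φ := PG.rep ok

theorem hl : chkLet (List.range 6) rels = true := by decide +kernel

theorem hg : ∀ r ∈ rels, ev g r = 1 := PG.hg ok hl hP

theorem lifts : Lifts g 6 rels := PG.lifts ok hl hP (by decide) card fun _ _ _ h => up h

end Cfsg.Agent.Known.SL29P
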