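import Cfsg.Agent.Known.Strong
import Cfsg.Agent.Known.NetTab

/-! Sz(8) as a permutation group `G` of degree 65 and order 29120 with a strong presentation (generated
certificate, helper25): `nets`, `rels`, `up`, `card`, `rep`, `hg`, `lifts`. -/

set_option maxRecDepth 100000
set_option exponentiation.threshold 100000

namespace Cfsg.Agent.Known.Sz8P

open Cfsg.Agent.Spor Equiv

noncomputable def n0 : Net :=
  Net.cons 1 (nat_lit 0x404040404055004) <|
  Net.cons 2 (nat_lit 0x3030303030121030) <|
  Net.cons 4 (nat_lit 0x90100) <|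
  Net.cons 8 (nat_lit 0x1000000001) <|
  Net.cons 16 (nat_lit 0x1) <|
  Net.cons 64 (nat_lit 0x1) <|
  Net.cons 32 (nat_lit 0x1ffee01) <|
  Net.cons 16 (nat_lit 0xfe000000ee00) <|
  Net.cons 8 (nat_lit 0x7e00ee00110011) <|
  Net.cons 4 (nat_lit 0xb05090909090908) <|
  Net.cons 2 (nat_lit 0x3200101010101010) <|
  Net.cons 1 (nat_lit 0x5104505050505050) <|
  Net.nil

noncomputable def n1 : Net :=
  Net.cons 1 (nat_lit 0x5050505050505050) <|
  Net.cons 2 (nat_lit 0x1100101010101010) <|
  Net.cons 4 (nat_lit 0x501010100010100) <|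
  Net.cons 8 (nat_lit 0xae00fe00000001) <|
  Net.cons 32 (nat_lit 0x1) <|
  Net.cons 64 (nat_lit 0x1) <|
  Net.cons 32 (nat_lit 0xffef0000) <|
  Net.cons 16 (nat_lit 0xee100000ee01) <|
  Net.cons 8 (nat_lit 0x11000000100011) <|
  Net.cons 4 (nat_lit 0x8090808080d0908) <|
  Net.cons 2 (nat_lit 0x3030303030312030) <|
  Net.cons 1 (nat_lit 0x404040404040404) <|
  Net.nil

noncomputable def n2 : Net :=
  Net.cons 1 (nat_lit 0x4411044440404040) <|
  Net.cons 2 (nat_lit 0x203101021031010) <|
  Net.cons 4 (nat_lit 0x801010105040000) <|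
  Net.cons 8 (nat_lit 0xee000800be0000) <|
  Net.cons 16 (nat_lit 0xe6e600000001) <|
  Net.cons 32 (nat_lit 0x1) <|
  Net.cons 64 (nat_lit 0x1) <|
  Net.cons 32 (nat_lit 0xfe0001fe) <|
  Net.cons 16 (nat_lit 0xfe08000001ef) <|
  Net.cons 8 (nat_lit 0xe700f600e700be) <|
  Net.cons 4 (nat_lit 0x80003030507070c) <|
  Net.cons 2 (nat_lit 0x232130203200330) <|
  Net.cons 1 (nat_lit 0x1014555105410) <|
  Net.nil

noncomputable def n3 : Net :=
  Net.cons 1 (nat_lit 0x1014555005400) <|
  Net.cons 2 (nat_lit 0x2010312020202130) <|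
  Net.cons 4 (nat_lit 0x10401010100) <|
  Net.cons 8 (nat_lit 0x12000600130000) <|
  Net.cons 16 (nat_lit 0xedfe00000001) <|
  Net.cons 64 (nat_lit 0x1) <|
  Net.cons 32 (nat_lit 0xeffe1001) <|
  Net.cons 16 (nat_lit 0x3ec0000eb05) <|
  Net.cons 8 (nat_lit 0x1100fc000000fa) <|
  Net.cons 4 (nat_lit 0x601070309090c08) <|
  Net.cons 2 (nat_lit 0x3021103203211032) <|
  Net.cons 1 (nat_lit 0x4411444440404440) <|
  Net.nil

noncomputable def n4 : Net :=
  Net.cons 1 (nat_lit 0x445041050100055) <|
  Net.cons 2 (nat_lit 0x1002103101222030) <|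
  Net.cons 4 (nat_lit 0x1050100000b0000) <|
  Net.cons 8 (nat_lit 0x82000e00410000) <|
  Net.cons 16 (nat_lit 0x482000000000) <|
  Net.cons 64 (nat_lit 0x1) <|
  Net.cons 32 (nat_lit 0x9c2bf200) <|
  Net.cons 16 (nat_lit 0xe92c0000679a) <|
  Net.cons 8 (nat_lit 0x2800cc00ad002a) <|
  Net.cons 4 (nat_lit 0xf0f0b0b06050e0c) <|
  Net.cons 2 (nat_lit 0x3221321323000212) <|
  Net.cons 1 (nat_lit 0x445041050100055) <|
  Net.nil

noncomputable def nets : List Net := [n0, n1, n2, n3, n4]

theorem ok : netsOk 65 nets = true := by decide +kernel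

def rels : List (List ℕ) := [[0,1],[1,0],[0,0,0,0,0,0,0],[2,3],[3,2],[0,0,3,3,1,3],[2,2,2,2,2,2,2],[0,2,1,2,2,2,0,3,0,3,3],[4,4],[0,4,0,4,
  0,4,0,4],[0,0,0,4,3,4,2,1,1,4,0,3],[0,2,4,3,4,2,4,3,1,4],[0,3,4,0,4,0,3,4,0,4],[0,4,1,2,4,1,4,3,3,4]]

theorem plhP_7 : ∀ p < 7, chkPl nets 65 7 rels p = true :=
  forall_lt_add (a := 0) (b := 7) (fun _ h => absurd h (Nat.not_lt_zero _)) (by decide +kernel)

theorem hP : ∀ r ∈ rels, ev (PP nets) r = 1 := ev_eq_one_of_planes ok (by decide) plhP_7

noncomputable def K0_0 : ℕ := (joinL 65 [(nat_lit 0x0),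
  (nat_lit 0x1f8),
  (nat_lit 0x0),
  (nat_lit 0x0),
  (nat_lit 0x0)])

theorem df0 : chkDef nets 65 2 rels (ivl 0 325) (nat_lit 0x0) 6 K0_0 = true := by
  decide +kernel

noncomputable def K0_1 : ℕ := (joinL 65 [(nat_lit 0x1fc),
  (nat_lit 0x1fc),
  (nat_lit 0x0),
  (nat_lit 0x0),
  (nat_lit 0x0)])

theorem dd0_0 : chkDed nets 65 2 rels (letS []) (nat_lit 0x8020000300400000002) 3 K0_0 K0_1 = true := by
  decide +kernel

theorem en0 : chkEnd nets 65 7 2 rels [0,1] (nat_lit 0x1fc) 7 K0_1 = true := by decide +kernel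

theorem up0 {H : Type*} [Group H] {g : ℕ → H} (hg : ∀ r ∈ rels, ev g r = 1) : CardLe (genL g [0,1]) 7 :=
  CardLe.lev ok hg (ded_let ok (by decide) hg hP dd0_0 (defPhase_sound _ ok hg hP df0))
    en0 (cardLe_nil g)

noncomputable def K1_0 : ℕ := (joinL 65 [(nat_lit 0x0),
  (nat_lit 0x1664bc83293fb4d50),
  (nat_lit 0x99b437cd6c04b2ac),
  (nat_lit 0x0),
  (nat_lit 0x0)])

theorem df1 : chkDef nets 65 1 rels (ivl 0 325) (nat_lit 0x40000000000000004000000000000000400000000000000040000000000000004000000000000000400000000) 12 K1_0 = true := by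
  decide +kernel

noncomputable def K1_1 : ℕ := (joinL 65 [(nat_lit 0x1fffffffffffffffe),
  (nat_lit 0x1fffffffffffffffe),
  (nat_lit 0x1fffffffffffffffe),
  (nat_lit 0x1fffffffffffffffe),
  (nat_lit 0x0)])

theorem dd1_0 : chkDed nets 65 1 rels (letS [0,1]) (nat_lit 0x10000000300000802000000080000180a000008080000300c0000080e0000200a0000180a0000000800000802000008080000080a0000000e0000100a000000020000080a000008080000200a0000180a0000100a000030040000000200000808000008020000200a0000300c0000180a0000080a0000080e0000080200000008000000020000280a0000080a000008080000000e0000200a0000180a0000300400000002000008080000280a0000300c) 45 K1_0 K1_1 = true := by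
  decide +kernel

theorem en1 : chkEnd nets 65 7 1 rels [0,1,2,3] (nat_lit 0x1fffffffffffffffe) 64 K1_1 = true := by decide +kernel

theorem up1 {H : Type*} [Group H] {g : ℕ → H} (hg : ∀ r ∈ rels, ev g r = 1) : CardLe (genL g [0,1,2,3]) 448 :=
  CardLe.lev ok hg (ded_let ok (by decide) hg hP dd1_0 (defPhase_sound _ ok hg hP df1))
    en1 (up0 hg)

noncomputable def K2_0 : ℕ := (joinL 65 [(nat_lit 0x0),
  (nat_lit 0x1a6b95a0baa0554e0),
  (nat_lit 0x1840a0601560011e),
  (nat_lit 0x0),
  (nat_lit 0x41060594409aaa00)])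

theorem df2 : chkDef nets 65 0 rels (ivl 0 325) (nat_lit 0x8000000000000000400000000000000080000000000000004000000000000000800000000) 10 K2_0 = true := by
  decide +kernel

noncomputable def K2_1 : ℕ := (joinL 65 [(nat_lit 0x1ffffffffffffffff),
  (nat_lit 0x1ffffffffffffffff),
  (nat_lit 0x1ffffffffffffffff),
  (nat_lit 0x1ffffffffffffffff),
  (nat_lit 0x1ffffffffffffffff)])

theorem dd2_0 : chkDed nets 65 0 rels (letS [0,1,2,3]) (nat_lit 0x10000000300000005000000070000080200000810000000080000180a000030120000101a0000301400002014000008080000080200000002000000080000200a0000381800003018000028180000381600000816000008100000080200000002000008080000180a0000100a00000808000028180000000200003012000000020000401a0000381600000816000008080000000a0000000200003004000000020000280a000008080000100a00000808000020160000180a000008080000200a00000802000040180000000200003004000000020000381200000810000030180000401a0000381a0000081a0000480e000008140000080800000810000000020000080a0000300c0000001a0000080e0000000a00000002000000080000280a0000181a0000401a0000200a0000180a0000100a0000000a000028140000301800002816000018160000500e000008080000081000000002000008020000200a0000080a0000180a000048180000081a0000300c0000080e0000381200000814000040180000301a0000380e0000280a0000381400003004000000020000080800000810000000080000180a000008080000200a0000080a0000080200003812)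 113 K2_0 K2_1 = true := by
  decide +kernel

theorem en2 : chkEnd nets 65 7 0 rels (List.range 5) (nat_lit 0x1ffffffffffffffff) 65 K2_1 = true := by decide +kernel

theorem up {H : Type*} [Group H] {g : ℕ → H} (hg : ∀ r ∈ rels, ev g r = 1) : CardLe (genL g (List.range 5)) 29120 :=
  CardLe.lev ok hg (ded_let ok (by decide) hg hP dd2_0 (defPhase_sound _ ok hg hP df2))
    en2 (up1 hg)

theorem lo0 : CardGe (genL (PP nets) [0,1]) 7 :=
  CardGe.stepL (L := 7) (b := 2) (n := 7) (ys := []) (prog := [1,1,1,1,1,1]) ok (cardGe_one _)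
    (genL_mono _ (by decide)) (by decide +kernel) (by decide +kernel)

theorem lo1 : CardGe (genL (PP nets) [0,1,2,3]) 448 :=
  CardGe.stepL (L := 7) (b := 1) (n := 64) (ys := [0,1]) (prog := [3,3,1,3,1,3,1,3,1,1,3,3]) ok (lo0)
    (genL_mono _ (by decide)) (by decide +kernel) (by decide +kernel)

theorem lo2 : CardGe (genL (PP nets) (List.range 5)) 29120 :=
  CardGe.stepL (L := 7) (b := 0) (n := 65) (ys := [0,1,2,3]) (prog := [4,3,1,4,3,1,4,1,3,3,4]) ok (lo1)
    (genL_mono _ (by decide)) (by decide +kernel) (by decide +kernel)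

/-- the group. -/
abbrev G : Type := PG nets 5

theorem lo : CardGe (PG nets 5) 29120 := lo2

theorem card : Nat.card G = 29120 := PG.card (up hP) lo

noncomputable abbrev g : ℕ → G := PG.g nets 5

noncomputable abbrev φ : G →* Perm ℕ := (PG nets 5).subtype

theorem rep : PermRep g nets 65 5 φ := PG.rep ok

theorem hl : chkLet (List.range 5) rels = true := by decide +kernel

theorem hg : ∀ r ∈ rels, ev g r = 1 := PG.hg ok hl hP

theorem lifts : Lifts g 5 rels := PG.lifts ok hl hP (by decide) card fun _ _ _ h => up h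

end Cfsg.Agent.Known.Sz8P
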